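import Groth.Agent.FinCov99.Basic
import Groth.Agent.QC70.Closure
import Groth.Agent.Mero90.TensorLift

/-!
Rank two algebras `O ⊕ L`, their traces, and the splitting by the trace.
-/

set_option autoImplicit false
set_option backward.isDefEq.respectTransparency.types false
set_option linter.style.haveILetI false

noncomputable section

universe u

open CategoryTheory Limits AlgebraicGeometry TopologicalSpace Opposite
open Groth.Agent.QC70 Groth.Agent.AlgSub72 Groth.Agent.Props58.LocFree

namespace Groth.Agent.FinCov99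

variable {X : Scheme.{u}}

/-- Bijectivity of combinations on all smaller opens gives a stalk basis. -/
theorem stalkBasis_of_bijective {M : X.Modules} {U : X.Opens} {n : ℕ} {s : Fin n → Γ(M, U)}
    (h : ∀ (W : X.Opens) (hW : W ≤ U),
      Function.Bijective fun a : Fin n → Γ(X, W) => ∑ i, a i • res M hW (s i)) :
    StalkBasis s := by
  intro y hy
  refine ⟨fun c d e => ?_, fun z => ?_⟩
  · obtain ⟨V, hV, hyV, a, ha⟩ := exists_common_lift hy (c - d)
    have h0 : germComb s y hy (c - d) = 0 := by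
      simp only [germComb, Pi.sub_apply, sub_smul, Finset.sum_sub_distrib]
      exact sub_eq_zero.mpr e
    obtain ⟨V', hV', hyV', e'⟩ := exists_comb_eq hV a 0 hyV (by
      rw [funext ha, h0]; exact (germM_zero hyV).symm)
    rw [res_zero] at e'
    have hz : (fun i => resO X hV' (a i)) = 0 := by
      refine (h V' (hV'.trans hV)).1 ?_
      change ∑ i, _ • _ = ∑ i, (0 : Γ(X, V')) • _
      simp only [zero_smul, Finset.sum_const_zero]
      exact e'
    funext i
    have e2 := congrArg (fun r => X.presheaf.germ V' y hyV' r) (congrFun hz i)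
    simp only [germ_resO, Pi.zero_apply, map_zero, ha, Pi.sub_apply, sub_eq_zero] at e2
    exact e2
  · obtain ⟨V, hyV, x, rfl⟩ := germM_exist z
    obtain ⟨a, ha⟩ := (h (V ⊓ U) inf_le_right).2 (res M (inf_le_left : V ⊓ U ≤ V) x)
    refine ⟨fun i => X.presheaf.germ (V ⊓ U) y ⟨hyV, hy⟩ (a i), ?_⟩
    rw [← germ_comb s (inf_le_right : V ⊓ U ≤ U), show (∑ i, a i • res M inf_le_right (s i)) = _ from ha,
      germM_res]

theorem exists_frame {L : X.Modules} (hL : PicF.IsInvertible L) (x : X) :
    ∃ (U : X.Opens) (s : Fin 1 → Γ(L, U)), x ∈ U ∧ StalkBasis s := by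
  obtain ⟨U, hx, ⟨e⟩⟩ := hL x
  obtain ⟨s, hs⟩ := exists_stalkBasis_of_iso (n := 1)
    (e ≪≫ (coproductUniqueIso (fun _ : Fin 1 => Coh.structureModule (↑U : Scheme.{u}))).symm)
  exact ⟨U, s, hx, hs⟩

variable (A : RelSpec.QCAlg X) {L : X.Modules}

/-- The value of a module map into an algebra. -/
abbrev jv (j : L ⟶ A.toModule) (U : X.Opens) (l : Γ(L, U)) : bSec A U := toB A (j.app U l)

theorem bRes_jv (j : L ⟶ A.toModule) {U V : X.Opens} (h : V ≤ U) (l : Γ(L, U)) :
    bRes A h (jv A j U l) = jv A j V (res L h l) := by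
  rw [← toB_res, ← app_res]

theorem jv_smul (j : L ⟶ A.toModule) {U : X.Opens} (r : Γ(X, U)) (l : Γ(L, U)) :
    jv A j U (r • l) = bStr A U r * jv A j U l := by
  rw [jv, Scheme.Modules.Hom.app_smul, toB_smul]

/-- The basis `1, j e` of a rank two algebra. -/
def dblBase (A : RelSpec.QCAlg X) (j : L ⟶ A.toModule) {U : X.Opens} (e : Fin 1 → Γ(L, U)) : Fin 2 → Γ(A.toModule, U) :=
  ![ofB A 1, ofB A (jv A j U (e 0))]

variable {A} {m : CohB1.tensorMod L L ⟶ Coh.structureModule X} {j : L ⟶ A.toModule}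
  (h : FinCov.IsDblAlg L m A j)

include h

theorem dbl_bij (U : X.Opens) :
    Function.Bijective fun p : Γ(X, U) × Γ(L, U) => bStr A U p.1 + jv A j U p.2 := h.1 U

theorem dbl_mul (U : X.Opens) (l l' : Γ(L, U)) :
    ∃ c : Γ(X, U), jv A j U l * jv A j U l' = bStr A U c := ⟨_, h.2 U l l'⟩

theorem stalkBasis_dblBase {U : X.Opens} {e : Fin 1 → Γ(L, U)} (he : StalkBasis e) :
    StalkBasis (dblBase A j e) := by
  refine stalkBasis_of_bijective fun W hW => ?_
  have h1 := (he.bijective hW)
  have key : ∀ a : Fin 2 → Γ(X, W), (∑ i, a i • res A.toModule hW (dblBase A j e i)) =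
      ofB A (bStr A W (a 0) + jv A j W (∑ i : Fin 1, (![a 1] : Fin 1 → Γ(X, W)) i • res L hW (e i))) := by
    intro a
    rw [Fin.sum_univ_two, Fin.sum_univ_one]
    change toB A (a 0 • res A.toModule hW (dblBase A j e 0)) + toB A (a 1 • res A.toModule hW (dblBase A j e 1)) = _
    rw [toB_smul, toB_smul, toB_res, toB_res, jv_smul]
    simp only [dblBase, Matrix.cons_val_zero, Matrix.cons_val_one, Matrix.cons_val_fin_one]
    rw [map_one, mul_one, bRes_jv]
  constructor
  · intro a b hab
    simp only [key] at hab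
    have := (dbl_bij h W).1 (a₁ := (a 0, _)) (a₂ := (b 0, _)) hab
    obtain ⟨e0, e1⟩ := Prod.ext_iff.1 this
    have e1' := congrFun (h1.1 e1) 0
    funext i
    fin_cases i
    · exact e0
    · exact e1'
  · intro z
    obtain ⟨⟨c, l⟩, hcl⟩ := (dbl_bij h W).2 (toB A z)
    obtain ⟨b, hb⟩ := h1.2 l
    refine ⟨![c, b 0], ?_⟩
    simp only [key, Matrix.cons_val_zero, Matrix.cons_val_one, Matrix.cons_val_fin_one]
    rw [Fin.sum_univ_one, show b 0 • res L hW (e 0) = l from (Fin.sum_univ_one _).symm.trans hb]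
    exact hcl

theorem trS_dbl {U V : X.Opens} {e : Fin 1 → Γ(L, U)} (he : StalkBasis e) (hV : V ≤ U)
    (c : Γ(X, V)) (l : Γ(L, V)) : trS A V (bStr A V c + jv A j V l) = 2 * c := by
  classical
  letI := algS A V
  let b := secBasis A (stalkBasis_dblBase h he) hV
  have b0 : b 0 = 1 := by
    rw [show b = secBasis A (stalkBasis_dblBase h he) hV from rfl, secBasis_apply]
    simp [dblBase]
  have b1 : b 1 = jv A j V (res L hV (e 0)) := by
    rw [show b = secBasis A (stalkBasis_dblBase h he) hV from rfl, secBasis_apply]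
    simp [dblBase, bRes_jv]
  obtain ⟨a, ha⟩ := (he.bijective hV).2 l
  replace ha : a 0 • res L hV (e 0) = l := (Fin.sum_univ_one _).symm.trans ha
  have hl : jv A j V l = a 0 • b 1 := by rw [b1, Algebra.smul_def, ← ha, jv_smul]; rfl
  obtain ⟨d, hd⟩ := dbl_mul h V (res L hV (e 0)) (res L hV (e 0))
  rw [← b1] at hd
  have t1 : trS A V (bStr A V c) = 2 * c := by
    refine (Algebra.trace_algebraMap_of_basis b c).trans ?_
    rw [Fintype.card_fin, nsmul_eq_mul, Nat.cast_ofNat]
  have t2 : trS A V (b 1) = 0 := by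
    simp only [trS]
    rw [Algebra.trace_eq_matrix_trace b, Matrix.trace_fin_two, Algebra.leftMulMatrix_eq_repr_mul,
      Algebra.leftMulMatrix_eq_repr_mul, b0, mul_one, hd, b.repr_self]
    have : bStr A V d = d • b 0 := by rw [b0, Algebra.smul_def, mul_one]; rfl
    rw [this, map_smul, b.repr_self]
    simp [Finsupp.single_apply]
  simp only [trS] at t1 t2 ⊢
  rw [map_add, t1, hl, map_smul, t2, smul_zero, add_zero]

theorem tval_dbl (hL : PicF.IsInvertible L) {τ : A.toModule ⟶ Coh.structureModule X}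
    (hτ : FinCov.IsTrace A τ) (U : X.Opens) (c : Γ(X, U)) (l : Γ(L, U)) :
    tval τ U (bStr A U c + jv A j U l) = 2 * c := by
  refine ext_loc fun y hy => ?_
  obtain ⟨W, e, hyW, he⟩ := exists_frame hL y
  refine ⟨U ⊓ W, inf_le_left, ⟨hy, hyW⟩, ?_⟩
  have := tval_spec hτ U (bStr A U c + jv A j U l) (U ⊓ W) inf_le_left 2 _
    ((stalkBasis_dblBase h he).restrict (inf_le_right : U ⊓ W ≤ W))
  rw [this, map_add, bRes_str, bRes_jv, trS_dbl h he inf_le_right]
  simp only [resO, map_mul, map_ofNat]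

theorem isFinLocFree_two (hL : PicF.IsInvertible L) : FlatMod.IsFinLocFreeOfRank 2 A.toModule := fun x => by
  obtain ⟨U, e, hx, he⟩ := exists_frame hL x
  exact ⟨U, hx, nonempty_iso_of_stalkBasis (stalkBasis_dblBase h he)⟩

end Groth.Agent.FinCov99
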