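import Groth.Agent.FinCov99.Basic
import Groth.Agent.QCqs72.Basic
import Groth.Agent.Cyc90.FlatFinFibre
import Groth.Agent.EGAProj74.RelSpecGamma
import Mathlib.RingTheory.Finiteness.ModuleFinitePresentation

/-!
Covers of degree `d`: affine morphisms with locally free direct image of rank `d`.
-/

set_option autoImplicit false
set_option linter.style.haveILetI false

noncomputable section

universe u

open CategoryTheory Limits AlgebraicGeometry TopologicalSpace Opposite
open Groth.Agent.QC70 Groth.Agent.Props58.LocFree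

namespace Groth.Agent.FinCov99

variable {X Y : Scheme.{u}}

theorem topIso_comm (f : X ⟶ Y) (V : Y.Opens) :
    V.topIso.hom ≫ f.app V = (f ∣_ V).appTop ≫ (f ⁻¹ᵁ V).topIso.hom := by
  rw [Scheme.Hom.appTop, morphismRestrict_app']
  simp only [Scheme.Opens.topIso,
    Scheme.Hom.app_eq_appLE, Functor.mapIso_hom, Iso.op_hom, eqToIso.hom]
  exact (Scheme.Hom.map_appLE (f := f) _ _).trans
    (Scheme.Hom.appLE_map (f := f) _ _).symm

/-- An affine cover with free section rings of rank `d` gives a cover of degree `d`. -/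
theorem isCover_of_free (f : X ⟶ Y) (d : ℕ)
    (h : ∀ y : Y, ∃ V : Y.Opens, IsAffineOpen V ∧ y ∈ V ∧ IsAffineOpen (f ⁻¹ᵁ V) ∧
      letI := (f.app V).hom.toAlgebra
      ∃ _b : Module.Basis (Fin d) Γ(Y, V) Γ(X, f ⁻¹ᵁ V), True) :
    FinCov.IsCover f d := by
  choose V hV hyV hU hb using h
  have hcov : (⨆ y, V y) = ⊤ := top_le_iff.mp fun y _ => Opens.mem_iSup.mpr ⟨y, hyV y⟩
  have hfin : IsFinite f := by
    refine IsZariskiLocalAtTarget.of_iSup_eq_top (P := @IsFinite) V hcov fun y => ?_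
    haveI : IsAffine (V y).toScheme := hV y
    haveI : IsAffine (f ⁻¹ᵁ V y).toScheme := hU y
    rw [HasAffineProperty.iff_of_isAffine (P := @IsFinite)]
    refine ⟨inferInstance, ?_⟩
    obtain ⟨b, -⟩ := hb y
    letI := (f.app (V y)).hom.toAlgebra
    have h1 : (f.app (V y)).hom.Finite := Module.Finite.of_basis b
    exact (RingHom.finite_respectsIso.arrow_mk_iso_iff (Arrow.isoMk
      ((V y).topIso) ((f ⁻¹ᵁ V y).topIso) (topIso_comm f (V y)))).mpr h1
  have hflat : Flat f := by
    refine IsZariskiLocalAtTarget.of_iSup_eq_top (P := @Flat) V hcov fun y => ?_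
    haveI : IsAffine (V y).toScheme := hV y
    haveI : IsAffine (f ⁻¹ᵁ V y).toScheme := hU y
    rw [HasRingHomProperty.iff_of_isAffine (P := @Flat)]
    obtain ⟨b, -⟩ := hb y
    letI := (f.app (V y)).hom.toAlgebra
    haveI : Module.Free Γ(Y, V y) Γ(X, f ⁻¹ᵁ V y) := Module.Free.of_basis b
    have h1 : (f.app (V y)).hom.Flat := (inferInstance : Module.Flat Γ(Y, V y) Γ(X, f ⁻¹ᵁ V y))
    exact (RingHom.Flat.respectsIso.arrow_mk_iso_iff (Arrow.isoMk
      ((V y).topIso) ((f ⁻¹ᵁ V y).topIso) (topIso_comm f (V y)))).mpr h1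
  have hlfp : LocallyOfFinitePresentation f := by
    refine IsZariskiLocalAtTarget.of_iSup_eq_top (P := @LocallyOfFinitePresentation) V hcov fun y => ?_
    haveI : IsAffine (V y).toScheme := hV y
    haveI : IsAffine (f ⁻¹ᵁ V y).toScheme := hU y
    rw [HasRingHomProperty.iff_of_isAffine (P := @LocallyOfFinitePresentation)]
    obtain ⟨b, -⟩ := hb y
    letI := (f.app (V y)).hom.toAlgebra
    haveI : Module.Free Γ(Y, V y) Γ(X, f ⁻¹ᵁ V y) := Module.Free.of_basis b
    haveI : Module.Finite Γ(Y, V y) Γ(X, f ⁻¹ᵁ V y) := Module.Finite.of_basis b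
    haveI : Module.FinitePresentation Γ(Y, V y) Γ(X, f ⁻¹ᵁ V y) :=
      Module.finitePresentation_of_projective _ _
    have h1 : (f.app (V y)).hom.FinitePresentation :=
      (inferInstance : Algebra.FinitePresentation Γ(Y, V y) Γ(X, f ⁻¹ᵁ V y))
    exact (RingHom.finitePresentation_respectsIso.arrow_mk_iso_iff (Arrow.isoMk
      ((V y).topIso) ((f ⁻¹ᵁ V y).topIso) (topIso_comm f (V y)))).mpr h1
  refine ⟨⟨hfin, hflat, hlfp⟩, fun y => ?_⟩
  rw [Cyc90.finrank_eq_rankAtStalk f (hV y) (hU y) (hyV y)]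
  obtain ⟨b, -⟩ := hb y
  letI := (f.app (V y)).hom.toAlgebra
  haveI : Nontrivial Γ(Y, V y) := (Y.presheaf.germ (V y) y (hyV y)).hom.domain_nontrivial
  haveI : Module.Free Γ(Y, V y) Γ(X, f ⁻¹ᵁ V y) := Module.Free.of_basis b
  haveI : Module.Finite Γ(Y, V y) Γ(X, f ⁻¹ᵁ V y) := Module.Finite.of_basis b
  show Module.rankAtStalk (R := Γ(Y, V y)) Γ(X, f ⁻¹ᵁ V y) _ = d
  rw [Module.rankAtStalk_eq_finrank_of_free, Pi.natCast_apply, Module.finrank_eq_card_basis b,
    Fintype.card_fin, Nat.cast_id]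

/-- Free sections near every point, from local freeness. -/
theorem exists_basis_sections (M : X.Modules) {U : X.Opens} {n : ℕ}
    (e : M.restrict U.ι ≅ FlatMod.freeMod (↑U) n) {V : X.Opens} (hV : V ≤ U) :
    ∃ _b : Module.Basis (Fin n) Γ(X, V) Γ(M, V), True := by
  obtain ⟨s, hs⟩ := exists_stalkBasis_of_iso e
  let L : (Fin n → Γ(X, V)) →ₗ[Γ(X, V)] Γ(M, V) :=
    { toFun := fun a => ∑ i, a i • res M hV (s i)
      map_add' := fun a b => by simp [add_smul, Finset.sum_add_distrib]
      map_smul' := fun r a => by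
        simp only [Pi.smul_apply, smul_eq_mul, mul_smul, RingHom.id_apply, Finset.smul_sum] }
  exact ⟨Module.Basis.ofEquivFun (LinearEquiv.ofBijective L (hs.bijective hV)).symm, trivial⟩

/-- An affine morphism with locally free direct image of rank `d` is a cover. -/
theorem isCover_of_pushforward (f : X ⟶ Y) [IsAffineHom f] (d : ℕ)
    (hL : FlatMod.IsFinLocFreeOfRank d
      ((Scheme.Modules.pushforward f).obj (Coh.structureModule X))) :
    FinCov.IsCover f d := by
  refine isCover_of_free f d fun y => ?_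
  obtain ⟨U, hyU, ⟨e⟩⟩ := hL y
  obtain ⟨V, hV, hyV, hVU⟩ := exists_isAffineOpen_mem_and_subset (X := Y) (U := U) hyU
  refine ⟨V, hV, hyV, hV.preimage f, ?_⟩
  letI := (f.app V).hom.toAlgebra
  obtain ⟨b, -⟩ := exists_basis_sections _ e hVU
  let ψ : Γ((Scheme.Modules.pushforward f).obj (Coh.structureModule X), V) ≃ₗ[Γ(Y, V)]
      Γ(X, f ⁻¹ᵁ V) :=
    { toFun := fun s => s
      invFun := fun s => s
      left_inv := fun _ => rfl
      right_inv := fun _ => rfl
      map_add' := fun _ _ => rfl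
      map_smul' := fun _ _ => rfl }
  exact ⟨b.map ψ, trivial⟩

/-- The direct image of a cover is locally free. -/
theorem isFinLocFreeOfRank_of_isCover (f : X ⟶ Y) (d : ℕ) (hc : FinCov.IsCover f d) :
    FlatMod.IsFinLocFreeOfRank d
      ((Scheme.Modules.pushforward f).obj (Coh.structureModule X)) := by
  obtain ⟨⟨hfin, hflat, hlfp⟩, hrk⟩ := hc
  haveI := hfin; haveI := hflat; haveI := hlfp
  haveI : (Coh.structureModule X).IsQuasicoherent := isQuasicoherent_unit
  haveI : ((Scheme.Modules.pushforward f).obj (Coh.structureModule X)).IsQuasicoherent :=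
    QCqs72.isQuasicoherent_pushforward (Coh.structureModule X) f
  have hlf : FlatMod.IsFinLocFree ((Scheme.Modules.pushforward f).obj (Coh.structureModule X)) := by
    refine FlatMor68.LocFree.isFinLocFree_of_projective_sections _ fun y => ?_
    obtain ⟨U, hU, hy, -⟩ := exists_isAffineOpen_mem_and_subset (X := Y) (x := y) (U := ⊤) trivial
    refine ⟨U, hU, hy, ?_⟩
    letI : Algebra Γ(Y, U) Γ(X, f ⁻¹ᵁ U) := (f.app U).hom.toAlgebra
    haveI : Module.Finite Γ(Y, U) Γ(X, f ⁻¹ᵁ U) := IsFinite.finite_app f U hU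
    haveI : Module.Flat Γ(Y, U) Γ(X, f ⁻¹ᵁ U) := by
      have := Flat.flat_appLE f hU (hU.preimage f) le_rfl
      rwa [← Scheme.Hom.app_eq_appLE] at this
    haveI : Algebra.FinitePresentation Γ(Y, U) Γ(X, f ⁻¹ᵁ U) := by
      have := LocallyOfFinitePresentation.finitePresentation_appLE f hU (hU.preimage f) le_rfl
      rwa [← Scheme.Hom.app_eq_appLE] at this
    haveI : Module.FinitePresentation Γ(Y, U) Γ(X, f ⁻¹ᵁ U) :=
      Module.FinitePresentation.of_finite_of_finitePresentation _ _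
    haveI : Module.Projective Γ(Y, U) Γ(X, f ⁻¹ᵁ U) := Module.Flat.projective_of_finitePresentation
    let e : Γ((Scheme.Modules.pushforward f).obj (Coh.structureModule X), U) ≃ₗ[Γ(Y, U)]
        Γ(X, f ⁻¹ᵁ U) :=
      { toFun := fun s => s
        invFun := fun s => s
        left_inv := fun _ => rfl
        right_inv := fun _ => rfl
        map_add' := fun _ _ => rfl
        map_smul' := fun _ _ => rfl }
    exact ⟨Module.Projective.of_equiv e.symm, Module.Finite.equiv e.symm⟩
  intro y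
  obtain ⟨U, n, hyU, ⟨e⟩⟩ := hlf y
  suffices n = d by subst this; exact ⟨U, hyU, ⟨e⟩⟩
  obtain ⟨V, hV, hyV, hVU⟩ := exists_isAffineOpen_mem_and_subset (X := Y) (U := U) hyU
  obtain ⟨b, -⟩ := exists_basis_sections _ e hVU
  rw [← hrk y, Cyc90.finrank_eq_rankAtStalk f hV (hV.preimage f) hyV]
  letI := (f.app V).hom.toAlgebra
  haveI : Nontrivial Γ(Y, V) := (Y.presheaf.germ V y hyV).hom.domain_nontrivial
  let ψ : Γ((Scheme.Modules.pushforward f).obj (Coh.structureModule X), V) ≃ₗ[Γ(Y, V)]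
      Γ(X, f ⁻¹ᵁ V) :=
    { toFun := fun s => s
      invFun := fun s => s
      left_inv := fun _ => rfl
      right_inv := fun _ => rfl
      map_add' := fun _ _ => rfl
      map_smul' := fun _ _ => rfl }
  haveI : Module.Free Γ(Y, V) Γ(X, f ⁻¹ᵁ V) := Module.Free.of_basis (b.map ψ)
  haveI : Module.Finite Γ(Y, V) Γ(X, f ⁻¹ᵁ V) := Module.Finite.of_basis (b.map ψ)
  show n = Module.rankAtStalk (R := Γ(Y, V)) Γ(X, f ⁻¹ᵁ V) _
  rw [Module.rankAtStalk_eq_finrank_of_free, Pi.natCast_apply,
    Module.finrank_eq_card_basis (b.map ψ), Fintype.card_fin, Nat.cast_id]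

/-- The relative spectrum of an algebra locally free of rank `d` is a cover of degree `d`. -/
theorem isCover_pi (A : RelSpec.QCAlg X) (d : ℕ)
    (hA : FlatMod.IsFinLocFreeOfRank d A.toModule) : FinCov.IsCover A.π d := by
  refine isCover_of_free A.π d fun y => ?_
  obtain ⟨U, hyU, ⟨e⟩⟩ := hA y
  obtain ⟨V, hV, hyV, hVU⟩ := exists_isAffineOpen_mem_and_subset (X := X) (U := U) hyU
  refine ⟨V, hV, hyV, hV.preimage A.π, ?_⟩
  letI := (A.π.app V).hom.toAlgebra
  obtain ⟨b, -⟩ := exists_basis_sections _ e hVU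
  haveI := Groth.Agent.EGAProj74.isIso_gammaAff A V hV
  let g := (asIso (A.gammaAff V hV)).commRingCatIsoToRingEquiv
  let ψ : Γ(A.toModule, V) ≃ₗ[Γ(X, V)] Γ(A.spec, A.π ⁻¹ᵁ V) :=
    { toFun := fun s => g.symm s
      invFun := fun s => g s
      left_inv := fun s => g.apply_symm_apply s
      right_inv := fun s => g.symm_apply_apply s
      map_add' := fun a b => map_add g.symm a b
      map_smul' := fun r a => by
        apply g.injective
        show g (g.symm (r • a)) = g ((A.π.app V).hom r * g.symm a)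
        rw [map_mul, g.apply_symm_apply, g.apply_symm_apply]
        refine (AlgSub72.toB_smul A r a).trans ?_
        show (A.str.app (op V)).hom r * AlgSub72.toB A a =
          (A.π.app V ≫ A.gammaAff V hV).hom r * AlgSub72.toB A a
        rw [A.π_app_gammaAff V hV] }
  exact ⟨b.map ψ, trivial⟩

end Groth.Agent.FinCov99
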