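import Groth.Prelude.Def_FinCov
import Groth.Agent.AlgSub72.Basic
import Groth.Agent.FlatMor68.LocFree
import Groth.Agent.Props58.LocFree.Criteria

/-!
The trace of a finite locally free algebra, computed in local bases.
-/

set_option autoImplicit false
set_option backward.isDefEq.respectTransparency.types false
set_option linter.style.haveILetI false

noncomputable section

universe u

open CategoryTheory Limits AlgebraicGeometry TopologicalSpace Opposite
open Groth.Agent.QC70 Groth.Agent.AlgSub72 Groth.Agent.Props58.LocFree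

namespace Groth.Agent.FinCov99

variable {X : Scheme.{u}} (A : RelSpec.QCAlg X)

/-- The algebra structure of the sections. -/
abbrev algS (U : X.Opens) : Algebra Γ(X, U) (bSec A U) := (bStr A U).toAlgebra

/-- A basis of the sections from a stalk basis. -/
def secBasis {U V : X.Opens} {n : ℕ} {s : Fin n → Γ(A.toModule, U)} (hs : StalkBasis s) (h : V ≤ U) :
    letI := algS A V
    Module.Basis (Fin n) Γ(X, V) (bSec A V) :=
  letI := algS A V
  Module.Basis.ofEquivFun (LinearEquiv.ofBijective
    { toFun := fun c : Fin n → Γ(X, V) => ∑ i, bStr A V (c i) * bRes A h (toB A (s i))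
      map_add' := fun c d => by simp [add_mul, Finset.sum_add_distrib]
      map_smul' := fun r c => by
        simp only [Pi.smul_apply, smul_eq_mul, map_mul, mul_assoc, ← Finset.mul_sum, RingHom.id_apply]
        rfl }
    (hs.bijective h)).symm

theorem secBasis_apply {U V : X.Opens} {n : ℕ} {s : Fin n → Γ(A.toModule, U)} (hs : StalkBasis s)
    (h : V ≤ U) (i : Fin n) :
    letI := algS A V
    secBasis A hs h i = bRes A h (toB A (s i)) := by
  letI := algS A V
  classical
  rw [secBasis, Module.Basis.coe_ofEquivFun]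
  simp only [LinearEquiv.symm_symm, LinearEquiv.ofBijective_apply, LinearMap.coe_mk, AddHom.coe_mk]
  rw [Finset.sum_eq_single i (fun j _ hj => by simp [Pi.single_eq_of_ne hj]) (by simp)]
  simp

theorem free_of_stalkBasis {U V : X.Opens} {n : ℕ} {s : Fin n → Γ(A.toModule, U)} (hs : StalkBasis s)
    (h : V ≤ U) :
    letI := algS A V
    Module.Free Γ(X, V) (bSec A V) ∧ Module.Finite Γ(X, V) (bSec A V) := by
  letI := algS A V
  exact ⟨Module.Free.of_basis (secBasis A hs h), Module.Finite.of_basis (secBasis A hs h)⟩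

/-- The trace on sections. -/
def trS (V : X.Opens) : bSec A V → Γ(X, V) :=
  letI := algS A V
  fun z => Algebra.trace Γ(X, V) (bSec A V) z

theorem trS_res {U V V' : X.Opens} {n : ℕ} {s : Fin n → Γ(A.toModule, U)} (hs : StalkBasis s)
    (hV : V ≤ U) (hV' : V' ≤ V) (z : bSec A V) :
    resO X hV' (trS A V z) = trS A V' (bRes A hV' z) := by
  classical
  letI := algS A V
  letI := algS A V'
  let b := secBasis A hs hV
  let b' := secBasis A hs (hV'.trans hV)
  have key : ∀ (j i : Fin n),
      b'.repr (bRes A hV' z * b' j) i = resO X hV' (b.repr (z * b j) i) := by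
    intro j i
    have hb : ∀ i, bRes A hV' (b i) = b' i := fun i => by
      simp only [b, b', secBasis_apply, bRes_bRes]
    have e' : bRes A hV' z * b' j = ∑ i, resO X hV' (b.repr (z * b j) i) • b' i := by
      rw [← hb j, ← map_mul]
      conv_lhs => rw [← b.sum_repr (z * b j)]
      rw [map_sum]
      refine Finset.sum_congr rfl fun i _ => ?_
      rw [Algebra.smul_def, Algebra.smul_def, map_mul, hb]
      exact congrArg (· * _) (bRes_str A hV' _)
    rw [e', b'.repr_sum_self]
  simp only [trS]
  rw [Algebra.trace_eq_matrix_trace b, Algebra.trace_eq_matrix_trace b']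
  simp only [Matrix.trace, Matrix.diag, Algebra.leftMulMatrix_eq_repr_mul, key]
  exact map_sum (X.presheaf.map (homOfLE hV').op).hom _ _

theorem exists_stalkBasis_of_free {U : X.Opens} (hU : IsAffineOpen U)
    (hfree : letI := algS A U; Module.Free Γ(X, U) (bSec A U))
    (hfin : letI := algS A U; Module.Finite Γ(X, U) (bSec A U)) :
    ∃ (n : ℕ) (s : Fin n → Γ(A.toModule, U)), StalkBasis s := by
  letI := algS A U
  haveI := hfree; haveI := hfin
  let e : Γ(A.toModule, U) ≃ₗ[Γ(X, U)] bSec A U :=
    { toFun := toB A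
      invFun := ofB A
      left_inv := fun _ => rfl
      right_inv := fun _ => rfl
      map_add' := fun _ _ => rfl
      map_smul' := fun r x => (toB_smul A r x).trans (Algebra.smul_def r (toB A x)).symm }
  obtain ⟨n, ⟨b⟩⟩ : ∃ n, Nonempty (Module.Basis (Fin n) Γ(X, U) (bSec A U)) :=
    ⟨_, ⟨(Module.Free.chooseBasis Γ(X, U) (bSec A U)).reindex (Fintype.equivFin _)⟩⟩
  obtain ⟨i⟩ := FlatMor68.LocFree.restrict_iso_free A.toModule hU n (e ≪≫ₗ b.equivFun)
  exact ⟨n, exists_stalkBasis_of_iso i⟩

/-- The defining property of the value of the trace. -/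
def TrVal (U : X.Opens) (a : bSec A U) (t : Γ(X, U)) : Prop :=
  ∀ (V : X.Opens) (h : V ≤ U) (n : ℕ) (s : Fin n → Γ(A.toModule, V)), StalkBasis s →
    resO X h t = trS A V (bRes A h a)

/-- Sections agreeing near every point are equal. -/
theorem ext_loc {U : X.Opens} {t t' : Γ(X, U)}
    (h : ∀ y ∈ U, ∃ (W : X.Opens) (hW : W ≤ U), y ∈ W ∧ resO X hW t = resO X hW t') : t = t' := by
  refine TopCat.Presheaf.section_ext X.sheaf U t t' fun y hy => ?_
  obtain ⟨W, hW, hyW, e⟩ := h y hy
  have e' := congrArg (fun r => X.presheaf.germ W y hyW r) e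
  simp only [germ_resO] at e'
  exact e'

variable {A} (hA : FlatMod.IsFinLocFree A.toModule)
include hA

theorem sheaf_ext {U : X.Opens} {t t' : Γ(X, U)}
    (h : ∀ (V : X.Opens) (hV : V ≤ U) (n : ℕ) (s : Fin n → Γ(A.toModule, V)), StalkBasis s →
      resO X hV t = resO X hV t') : t = t' := by
  refine TopCat.Presheaf.section_ext X.sheaf U t t' fun y hy => ?_
  obtain ⟨W, n, s, hyW, hs⟩ := isFinLocFree_iff.1 hA y
  have e := h (W ⊓ U) inf_le_right n _ (hs.restrict inf_le_left)
  have e' := congrArg (fun r => X.presheaf.germ (W ⊓ U) y ⟨hyW, hy⟩ r) e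
  simp only [germ_resO] at e'
  exact e'

theorem existsUnique_trVal (U : X.Opens) (a : bSec A U) : ∃! t : Γ(X, U), TrVal A U a t := by
  choose W n s hyW hs using fun y : U => isFinLocFree_iff.1 hA y.1
  let V : U → X.Opens := fun y => W y ⊓ U
  have hcov : U ≤ ⨆ y, V y := fun y hy => Opens.mem_iSup.mpr ⟨⟨y, hy⟩, hyW ⟨y, hy⟩, hy⟩
  have hex : ∃ t : Γ(X, U), ∀ y, resO X (inf_le_right : V y ≤ U) t = trS A (V y) (bRes A inf_le_right a) := by
    obtain ⟨t, ht, -⟩ := TopCat.Sheaf.existsUnique_gluing' X.sheaf V U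
      (fun y => homOfLE inf_le_right) hcov (fun y => trS A (V y) (bRes A inf_le_right a)) (fun y y' => by
        change resO X (inf_le_left : V y ⊓ V y' ≤ V y) (trS A (V y) _) =
          resO X (inf_le_right : V y ⊓ V y' ≤ V y') (trS A (V y') _)
        rw [trS_res A (hs y) inf_le_left inf_le_left, trS_res A (hs y') inf_le_left inf_le_right,
          bRes_bRes, bRes_bRes])
    exact ⟨t, ht⟩
  obtain ⟨t, ht⟩ := hex
  have main : TrVal A U a t := fun V' h m s' hs' => by
    refine ext_loc fun y hy => ⟨V' ⊓ V ⟨y, h hy⟩, inf_le_left, ⟨hy, hyW ⟨y, h hy⟩, h hy⟩, ?_⟩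
    rw [trS_res A hs' le_rfl inf_le_left, resO_resO, ← resO_resO (inf_le_right : V ⟨y, h hy⟩ ≤ U) (inf_le_right : V' ⊓ V ⟨y, h hy⟩ ≤ V ⟨y, h hy⟩),
      ht, trS_res A (hs ⟨y, h hy⟩) inf_le_left inf_le_right, bRes_bRes, bRes_bRes]
  exact ⟨t, main, fun t' ht' => sheaf_ext hA fun V' h m s' hs' =>
    (ht' V' h m s' hs').trans (main V' h m s' hs').symm⟩

/-- The value of the trace. -/
def trVal (U : X.Opens) (a : bSec A U) : Γ(X, U) := (existsUnique_trVal hA U a).choose

theorem trVal_spec (U : X.Opens) (a : bSec A U) : TrVal A U a (trVal hA U a) :=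
  (existsUnique_trVal hA U a).choose_spec.1

theorem trVal_eq {U : X.Opens} {a : bSec A U} {t : Γ(X, U)} (h : TrVal A U a t) : trVal hA U a = t :=
  ((existsUnique_trVal hA U a).choose_spec.2 t h).symm

theorem trVal_add (U : X.Opens) (a b : bSec A U) :
    trVal hA U (a + b) = trVal hA U a + trVal hA U b :=
  trVal_eq hA fun V h n s hs => by
    simp only [resO, map_add]
    rw [← resO, ← resO, trVal_spec hA U a V h n s hs, trVal_spec hA U b V h n s hs]
    letI := algS A V
    exact (map_add (Algebra.trace Γ(X, V) (bSec A V)) _ _).symm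

theorem trVal_mul (U : X.Opens) (r : Γ(X, U)) (a : bSec A U) :
    trVal hA U (bStr A U r * a) = r * trVal hA U a :=
  trVal_eq hA fun V h n s hs => by
    rw [map_mul, bRes_str]
    simp only [resO, map_mul]
    rw [← resO, ← resO, trVal_spec hA U a V h n s hs]
    letI := algS A V
    exact ((congrArg (Algebra.trace Γ(X, V) (bSec A V))
      (Algebra.smul_def (resO X h r) (bRes A h a)).symm).trans (map_smul _ _ _)).symm

theorem trVal_res {U U' : X.Opens} (h : U' ≤ U) (a : bSec A U) :
    trVal hA U' (bRes A h a) = resO X h (trVal hA U a) :=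
  trVal_eq hA fun V h' n s hs => by
    rw [resO_resO, trVal_spec hA U a V (h'.trans h) n s hs, bRes_bRes]

/-- The trace as a morphism of modules. -/
def trHom : A.toModule ⟶ Coh.structureModule X :=
  ⟨letI := A.moduleSect
   PresheafOfModules.homMk
    { app := fun U => AddCommGrpCat.ofHom (AddMonoidHom.mk' (trVal hA U.unop) (trVal_add hA U.unop))
      naturality := fun U V i => by
        ext a
        exact trVal_res hA (leOfHom i.unop) a }
    (fun U r a => trVal_mul hA U.unop r a)⟩

theorem trHom_app (U : X.Opens) (a : bSec A U) : ((trHom hA).val.app (op U)).hom a = trVal hA U a := rfl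

theorem isTrace_trHom : FinCov.IsTrace A (trHom hA) := by
  intro U hU hfree hfin a
  obtain ⟨n, s, hs⟩ := exists_stalkBasis_of_free A hU hfree hfin
  refine (trHom_app hA U a).trans ?_
  have h := trVal_spec hA U a U le_rfl n s hs
  rw [resO_self, bRes_self] at h
  exact h

/-- The value of a trace on sections. -/
def tval (τ : A.toModule ⟶ Coh.structureModule X) (U : X.Opens) (a : bSec A U) : Γ(X, U) :=
  (τ.val.app (op U)).hom a

omit hA in
theorem tval_res (τ : A.toModule ⟶ Coh.structureModule X) {U U' : X.Opens} (h : U' ≤ U) (a : bSec A U) :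
    tval τ U' (bRes A h a) = resO X h (tval τ U a) :=
  PresheafOfModules.naturality_apply τ.val (homOfLE h).op a

omit hA in
theorem tval_spec {τ : A.toModule ⟶ Coh.structureModule X} (hτ : FinCov.IsTrace A τ) (U : X.Opens)
    (a : bSec A U) : TrVal A U a (tval τ U a) := by
  intro V h n s hs
  refine ext_loc fun y hy => ?_
  obtain ⟨V', hV', hyV', hle⟩ := exists_isAffineOpen_mem_and_subset hy
  have hle' : V' ≤ V := hle
  refine ⟨V', hle', hyV', ?_⟩
  obtain ⟨hf, hg⟩ := free_of_stalkBasis A hs hle'
  rw [resO_resO, trS_res A hs le_rfl hle', bRes_bRes, ← tval_res]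
  exact hτ V' hV' hf hg (bRes A (hle'.trans h) a)

theorem tval_eq_trVal {τ : A.toModule ⟶ Coh.structureModule X} (hτ : FinCov.IsTrace A τ) (U : X.Opens)
    (a : bSec A U) : tval τ U a = trVal hA U a :=
  (trVal_eq hA (tval_spec hτ U a)).symm

theorem isTrace_unique {τ : A.toModule ⟶ Coh.structureModule X} (hτ : FinCov.IsTrace A τ) :
    τ = trHom hA :=
  Scheme.Modules.hom_ext _ _ fun U => by
    ext a
    exact tval_eq_trVal hA hτ U a

end Groth.Agent.FinCov99
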