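import Groth.Agent.FinCov99.Basic
import Groth.Agent.FinCov99.Cover

/-!
The involution `b ↦ tr b - b` of a double cover.
-/

set_option autoImplicit false
set_option backward.isDefEq.respectTransparency.types false
set_option linter.style.haveILetI false

noncomputable section

universe u

open CategoryTheory Limits AlgebraicGeometry TopologicalSpace Opposite
open Groth.Agent.QC70 Groth.Agent.AlgSub72 Groth.Agent.Props58.LocFree

namespace Groth.Agent.FinCov99

theorem trace_identities {R B : Type u} [CommRing R] [CommRing B] [Algebra R B]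
    (b : Module.Basis (Fin 2) R B) (x y : B) :
    (algebraMap R B (Algebra.trace R B x) - x) * (algebraMap R B (Algebra.trace R B y) - y) =
      algebraMap R B (Algebra.trace R B (x * y)) - x * y ∧
    Algebra.trace R B (algebraMap R B (Algebra.trace R B x) - x) = Algebra.trace R B x ∧
    Algebra.trace R B (1 : B) = 2 := by
  have h1 : Algebra.trace R B (1 : B) = 2 := by
    rw [← map_one (algebraMap R B), Algebra.trace_algebraMap_of_basis b]; simp
  refine ⟨?_, ?_, h1⟩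
  · apply Algebra.leftMulMatrix_injective b
    have hc : Algebra.leftMulMatrix b x * Algebra.leftMulMatrix b y =
        Algebra.leftMulMatrix b y * Algebra.leftMulMatrix b x := by rw [← map_mul, ← map_mul, mul_comm]
    simp only [Algebra.trace_eq_matrix_trace b, map_mul, map_sub, AlgHom.commutes,
      Matrix.algebraMap_eq_diagonal]
    generalize Algebra.leftMulMatrix b x = P at hc ⊢
    generalize Algebra.leftMulMatrix b y = Q at hc ⊢
    have h00 := congrFun₂ hc 0 0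
    have h01 := congrFun₂ hc 0 1
    have h10 := congrFun₂ hc 1 0
    have h11 := congrFun₂ hc 1 1
    simp only [Matrix.mul_apply, Fin.sum_univ_two] at h00 h01 h10 h11
    ext i j
    fin_cases i <;> fin_cases j <;>
      simp [Matrix.mul_apply, Fin.sum_univ_two, Matrix.trace, Matrix.diagonal, Matrix.sub_apply] <;>
      grind
  · rw [map_sub, Algebra.trace_algebraMap_of_basis b]
    simp [two_mul, nsmul_eq_mul]

variable {X : Scheme.{u}} {A : RelSpec.QCAlg X} (h : FlatMod.IsFinLocFreeOfRank 2 A.toModule)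

theorem bRes_self {U : X.Opens} (a : bSec A U) : bRes A (le_refl U) a = a := by simp [bRes]

theorem isFinLocFree_of_two (h : FlatMod.IsFinLocFreeOfRank 2 A.toModule) :
    FlatMod.IsFinLocFree A.toModule := fun x => by
  obtain ⟨U, hx, e⟩ := h x; exact ⟨U, 2, hx, e⟩

theorem exists_basis_two (h : FlatMod.IsFinLocFreeOfRank 2 A.toModule) (y : X) :
    ∃ (W : X.Opens) (s : Fin 2 → Γ(A.toModule, W)), y ∈ W ∧ StalkBasis s := by
  obtain ⟨U, hy, ⟨e⟩⟩ := h y
  obtain ⟨s, hs⟩ := exists_stalkBasis_of_iso e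
  exact ⟨U, s, hy, hs⟩

/-- Equalities of sections of the algebra are local. -/
theorem bExt {U : X.Opens} {a a' : bSec A U}
    (h : ∀ y ∈ U, ∃ (W : X.Opens) (hW : W ≤ U), y ∈ W ∧ bRes A hW a = bRes A hW a') : a = a' := by
  refine TopCat.Presheaf.section_ext (⟨A.presheaf, A.isSheaf⟩ : TopCat.Sheaf CommRingCat X) U a a'
    fun y hy => ?_
  obtain ⟨W, hW, hyW, e⟩ := h y hy
  show A.presheaf.germ U y hy a = A.presheaf.germ U y hy a'
  rw [← TopCat.Presheaf.germ_res_apply A.presheaf (homOfLE hW) y hyW]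
  exact (congrArg (A.presheaf.germ W y hyW) e).trans
    (TopCat.Presheaf.germ_res_apply A.presheaf (homOfLE hW) y hyW a')

/-- `b ↦ tr b - b`. -/
def sg (h : FlatMod.IsFinLocFreeOfRank 2 A.toModule) (U : X.Opens) (a : bSec A U) : bSec A U :=
  bStr A U (trVal (isFinLocFree_of_two h) U a) - a

theorem sg_res {U V : X.Opens} (hV : V ≤ U) (a : bSec A U) :
    bRes A hV (sg h U a) = sg h V (bRes A hV a) := by
  rw [sg, sg, map_sub, bRes_str, trVal_res]

/-- Near every point everything is computed by a basis. -/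
theorem exists_chart {U : X.Opens} {y : X} (hy : y ∈ U) :
    ∃ (W : X.Opens) (hW : W ≤ U), y ∈ W ∧
      (letI := algS A W; Nonempty (Module.Basis (Fin 2) Γ(X, W) (bSec A W))) ∧
      ∀ z : bSec A W, trVal (isFinLocFree_of_two h) W z = trS A W z := by
  obtain ⟨W, s, hyW, hs⟩ := exists_basis_two h y
  refine ⟨U ⊓ W, inf_le_left, ⟨hy, hyW⟩, ⟨secBasis A hs inf_le_right⟩, fun z => ?_⟩
  refine Eq.trans ?_ ((trVal_spec (isFinLocFree_of_two h) (U ⊓ W) z (U ⊓ W) le_rfl 2 _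
    (hs.restrict inf_le_right)).trans (by rw [bRes_self]))
  simp [resO]

theorem sg_chart {W : X.Opens} (hz : ∀ z : bSec A W, trVal (isFinLocFree_of_two h) W z = trS A W z)
    (z : bSec A W) : sg h W z =
      (letI := algS A W; algebraMap Γ(X, W) (bSec A W) (Algebra.trace Γ(X, W) (bSec A W) z) - z) := by
  rw [sg, hz]
  rfl

theorem sg_mul (U : X.Opens) (a b : bSec A U) : sg h U (a * b) = sg h U a * sg h U b := by
  refine bExt fun y hy => ?_
  obtain ⟨W, hW, hyW, ⟨β⟩, hz⟩ := exists_chart h hy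
  refine ⟨W, hW, hyW, ?_⟩
  letI := algS A W
  rw [sg_res, map_mul, map_mul, sg_res, sg_res, sg_chart h hz, sg_chart h hz, sg_chart h hz]
  exact (trace_identities β _ _).1.symm

theorem sg_one (U : X.Opens) : sg h U 1 = 1 := by
  refine bExt fun y hy => ?_
  obtain ⟨W, hW, hyW, ⟨β⟩, hz⟩ := exists_chart h hy
  refine ⟨W, hW, hyW, ?_⟩
  letI := algS A W
  rw [sg_res, map_one, sg_chart h hz, (trace_identities β 1 1).2.2, map_ofNat]
  norm_num

theorem trVal_str (U : X.Opens) (r : Γ(X, U)) :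
    trVal (isFinLocFree_of_two h) U (bStr A U r) = 2 * r := by
  refine ext_loc fun y hy => ?_
  obtain ⟨W, hW, hyW, ⟨β⟩, hz⟩ := exists_chart h hy
  refine ⟨W, hW, hyW, ?_⟩
  letI := algS A W
  rw [← trVal_res (isFinLocFree_of_two h) hW, bRes_str, hz]
  show Algebra.trace _ _ (algebraMap Γ(X, W) (bSec A W) _) = _
  rw [Algebra.trace_algebraMap_of_basis β]
  simp [resO, map_mul, nsmul_eq_mul, map_ofNat]

theorem sg_str (U : X.Opens) (r : Γ(X, U)) : sg h U (bStr A U r) = bStr A U r := by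
  rw [sg, trVal_str h, map_mul, map_ofNat]; ring

theorem sg_sg (U : X.Opens) (a : bSec A U) : sg h U (sg h U a) = a := by
  refine bExt fun y hy => ?_
  obtain ⟨W, hW, hyW, ⟨β⟩, hz⟩ := exists_chart h hy
  refine ⟨W, hW, hyW, ?_⟩
  letI := algS A W
  rw [sg_res, sg_res, sg_chart h hz, sg_chart h hz, (trace_identities β _ (1 : bSec A W)).2.1, sub_sub_cancel]

/-- The involution as a ring map. -/
def sgHom (U : X.Opens) : bSec A U →+* bSec A U where
  toFun := sg h U
  map_one' := sg_one h U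
  map_mul' := sg_mul h U
  map_zero' := by
    have := sg_str h U 0
    rwa [map_zero] at this
  map_add' a b := by
    simp only [sg, trVal_add, map_add]; ring

include h in
theorem bStr_injective (hu : IsUnit (2 : Γ(X, ⊤))) (U : X.Opens) : Function.Injective (bStr A U) := by
  intro r r' e
  have e' := congrArg (trVal (isFinLocFree_of_two h) U) e
  rw [trVal_str h, trVal_str h] at e'
  have : IsUnit (2 : Γ(X, U)) := by
    have := hu.map (X.presheaf.map (homOfLE (le_top : U ≤ ⊤)).op).hom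
    rwa [map_ofNat] at this
  exact this.mul_left_cancel e'

theorem sg_fixed (hu : IsUnit (2 : Γ(X, ⊤))) (U : X.Opens) (a : bSec A U) (ha : sg h U a = a) :
    a ∈ Set.range (bStr A U) := by
  have hu' : IsUnit (2 : Γ(X, U)) := by
    have := hu.map (X.presheaf.map (homOfLE (le_top : U ≤ ⊤)).op).hom
    rwa [map_ofNat] at this
  obtain ⟨w, hw⟩ := hu'.exists_left_inv
  refine ⟨w * trVal (isFinLocFree_of_two h) U a, ?_⟩
  rw [sg, sub_eq_iff_eq_add] at ha
  rw [map_mul, ha]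
  have : bStr A U w * 2 = 1 := by rw [← map_ofNat (bStr A U) 2, ← map_mul, hw, map_one]
  calc _ = (bStr A U w * 2) * a := by ring
    _ = a := by rw [this, one_mul]

section cover

variable {Z Y : Scheme.{u}} (f : Z ⟶ Y) [IsAffineHom f]
variable (σ : ∀ V : Y.Opens, Γ(Z, f ⁻¹ᵁ V) →+* Γ(Z, f ⁻¹ᵁ V))
variable (hσ : ∀ {V W : Y.Opens} (i : W ≤ V) (a : Γ(Z, f ⁻¹ᵁ V)),
    Z.presheaf.map (homOfLE (f.preimage_mono i)).op (σ V a) =
      σ W (Z.presheaf.map (homOfLE (f.preimage_mono i)).op a))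

/-- On an affine piece. -/
def piece (V : Y.Opens) (hV : IsAffineOpen V) : (f ⁻¹ᵁ V).toScheme ⟶ Z :=
  (hV.preimage f).isoSpec.hom ≫ Spec.map (CommRingCat.ofHom (σ V)) ≫ (hV.preimage f).fromSpec

include hσ in
theorem piece_res {V W : Y.Opens} (hV : IsAffineOpen V) (hW : IsAffineOpen W) (i : W ≤ V) :
    Z.homOfLE (f.preimage_mono i) ≫ piece f σ V hV = piece f σ W hW := by
  have hnat : CommRingCat.ofHom (σ V) ≫ Z.presheaf.map (homOfLE (f.preimage_mono i)).op =
      Z.presheaf.map (homOfLE (f.preimage_mono i)).op ≫ CommRingCat.ofHom (σ W) := by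
    ext a; exact hσ i a
  have h1 : Z.homOfLE (f.preimage_mono i) ≫ (hV.preimage f).isoSpec.hom =
      (hW.preimage f).isoSpec.hom ≫ Spec.map (Z.presheaf.map (homOfLE (f.preimage_mono i)).op) := by
    have : Mono (hV.preimage f).fromSpec := inferInstance
    rw [← cancel_mono (hV.preimage f).fromSpec]
    simp [IsAffineOpen.map_fromSpec _ (hW.preimage f)]
  rw [piece, piece, ← Category.assoc, h1, Category.assoc, ← Category.assoc (Spec.map _) (Spec.map _),
    ← Spec.map_comp, hnat, Spec.map_comp, Category.assoc, IsAffineOpen.map_fromSpec _ (hW.preimage f)]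

include hσ in
theorem exists_hom : ∃ s : Z ⟶ Z, ∀ (V : Y.Opens) (hV : IsAffineOpen V),
    (f ⁻¹ᵁ V).ι ≫ s = piece f σ V hV := by
  have hcov : TopologicalSpace.IsOpenCover fun V : Y.affineOpens => f ⁻¹ᵁ V.1 := by
    refine top_le_iff.1 fun z _ => ?_
    obtain ⟨V, hV, hz, -⟩ := exists_isAffineOpen_mem_and_subset (X := Y) (x := f z) (U := ⊤) trivial
    exact Opens.mem_iSup.2 ⟨⟨V, hV⟩, hz⟩
  let 𝒰 := Z.openCoverOfIsOpenCover _ hcov
  refine ⟨𝒰.glueMorphisms (fun V => piece f σ V.1 V.2) fun V W => ?_, fun V hV =>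
    𝒰.ι_glueMorphisms _ _ ⟨V, hV⟩⟩
  -- agreement near every point of the overlap
  refine Scheme.Cover.hom_ext (Scheme.openCoverOfIsOpenCover _
    (fun D : {D : Y.affineOpens // D.1 ≤ V.1 ⊓ W.1} =>
      (pullback.fst (f ⁻¹ᵁ V.1).ι (f ⁻¹ᵁ W.1).ι ≫ (f ⁻¹ᵁ V.1).ι) ⁻¹ᵁ (f ⁻¹ᵁ D.1.1)) ?_) _ _ fun D => ?_
  · refine top_le_iff.1 fun z _ => ?_
    have hzV : f ((pullback.fst (f ⁻¹ᵁ V.1).ι (f ⁻¹ᵁ W.1).ι ≫ (f ⁻¹ᵁ V.1).ι) z) ∈ V.1 ⊓ W.1 := by
      refine ⟨((pullback.fst (f ⁻¹ᵁ V.1).ι (f ⁻¹ᵁ W.1).ι) z).2, ?_⟩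
      rw [pullback.condition]
      exact ((pullback.snd (f ⁻¹ᵁ V.1).ι (f ⁻¹ᵁ W.1).ι) z).2
    obtain ⟨D, hD, hzD, hle⟩ := exists_isAffineOpen_mem_and_subset hzV
    exact Opens.mem_iSup.2 ⟨⟨⟨D, hD⟩, hle⟩, hzD⟩
  · set O := (pullback.fst (f ⁻¹ᵁ V.1).ι (f ⁻¹ᵁ W.1).ι ≫ (f ⁻¹ᵁ V.1).ι) ⁻¹ᵁ (f ⁻¹ᵁ D.1.1)
    show O.ι ≫ pullback.fst _ _ ≫ piece f σ V.1 V.2 = O.ι ≫ pullback.snd _ _ ≫ piece f σ W.1 W.2
    let r : O.toScheme ⟶ (f ⁻¹ᵁ D.1.1).toScheme :=
      (pullback.fst (f ⁻¹ᵁ V.1).ι (f ⁻¹ᵁ W.1).ι ≫ (f ⁻¹ᵁ V.1).ι) ∣_ (f ⁻¹ᵁ D.1.1)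
    have hr : r ≫ (f ⁻¹ᵁ D.1.1).ι = O.ι ≫ pullback.fst _ _ ≫ (f ⁻¹ᵁ V.1).ι := morphismRestrict_ι _ _
    have e1 : r ≫ Z.homOfLE (f.preimage_mono (D.2.trans inf_le_left)) = O.ι ≫ pullback.fst _ _ := by
      rw [← cancel_mono (f ⁻¹ᵁ V.1).ι, Category.assoc, Scheme.homOfLE_ι, hr, Category.assoc]
    have e2 : r ≫ Z.homOfLE (f.preimage_mono (D.2.trans inf_le_right)) = O.ι ≫ pullback.snd _ _ := by
      rw [← cancel_mono (f ⁻¹ᵁ W.1).ι, Category.assoc, Scheme.homOfLE_ι, hr, Category.assoc,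
        pullback.condition]
    rw [← Category.assoc, ← e1, Category.assoc,
      piece_res f σ hσ V.2 D.1.2 (D.2.trans inf_le_left),
      ← Category.assoc, ← e2, Category.assoc,
      piece_res f σ hσ W.2 D.1.2 (D.2.trans inf_le_right)]

end cover

end Groth.Agent.FinCov99
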