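import Groth.Agent.FinCov99.Dbl

/-!
The rank two algebra attached to an invertible module with a pairing.
-/

set_option autoImplicit false
set_option backward.isDefEq.respectTransparency.types false
set_option linter.style.haveILetI false

noncomputable section

universe u

open CategoryTheory Limits AlgebraicGeometry TopologicalSpace Opposite
open Groth.Agent.QC70 Groth.Agent.Props58.LocFree

namespace Groth.Agent.FinCov99

variable {X : Scheme.{u}} {L : X.Modules}

/-- A pure tensor of sections. -/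
abbrev tw (L : X.Modules) {U : X.Opens} (l l' : Γ(L, U)) : Γ(CohB1.tensorMod L L, U) :=
  SecTwist.tmul L L U l l'

theorem tw_add_left {U : X.Opens} (a b c : Γ(L, U)) : tw L (a + b) c = tw L a c + tw L b c :=
  (congrArg ((SecTwist.toTensor L L).app (op U)).hom (Mod48.tp_add_left (O := X.sheaf) (M := CohB1.toPMod L)
    (N := CohB1.toPMod L) (X := op U) a b c)).trans (map_add _ _ _)

theorem tw_add_right {U : X.Opens} (a b c : Γ(L, U)) : tw L a (b + c) = tw L a b + tw L a c :=
  (congrArg ((SecTwist.toTensor L L).app (op U)).hom (Mod48.tp_add_right (O := X.sheaf) (M := CohB1.toPMod L)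
    (N := CohB1.toPMod L) (X := op U) a b c)).trans (map_add _ _ _)

theorem tw_smul_left {U : X.Opens} (r : Γ(X, U)) (a b : Γ(L, U)) : tw L (r • a) b = r • tw L a b :=
  (congrArg ((SecTwist.toTensor L L).app (op U)).hom (Mod48.tp_smul_left (O := X.sheaf) (M := CohB1.toPMod L)
    (N := CohB1.toPMod L) (X := op U) r a b)).trans (map_smul _ _ _)

theorem tw_smul_right {U : X.Opens} (r : Γ(X, U)) (a b : Γ(L, U)) : tw L a (r • b) = r • tw L a b :=
  (congrArg ((SecTwist.toTensor L L).app (op U)).hom (Mod48.tp_smul_right (O := X.sheaf) (M := CohB1.toPMod L)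
    (N := CohB1.toPMod L) (X := op U) r a b)).trans (map_smul _ _ _)

variable (m : CohB1.tensorMod L L ⟶ Coh.structureModule X)

/-- The pairing on sections. -/
def pm {U : X.Opens} (l l' : Γ(L, U)) : Γ(X, U) := m.app U (tw L l l')

theorem pm_add_left {U : X.Opens} (a b c : Γ(L, U)) : pm m (a + b) c = pm m a c + pm m b c := by
  rw [pm, tw_add_left]; exact map_add (m.app U).hom _ _

theorem pm_add_right {U : X.Opens} (a b c : Γ(L, U)) : pm m a (b + c) = pm m a b + pm m a c := by
  rw [pm, tw_add_right]; exact map_add (m.app U).hom _ _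

theorem pm_smul_left {U : X.Opens} (r : Γ(X, U)) (a b : Γ(L, U)) : pm m (r • a) b = r * pm m a b := by
  rw [pm, tw_smul_left]; exact Scheme.Modules.Hom.app_smul m r _

theorem pm_smul_right {U : X.Opens} (r : Γ(X, U)) (a b : Γ(L, U)) : pm m a (r • b) = r * pm m a b := by
  rw [pm, tw_smul_right]; exact Scheme.Modules.Hom.app_smul m r _

theorem pm_res {U V : X.Opens} (h : V ≤ U) (a b : Γ(L, U)) :
    resO X h (pm m a b) = pm m (res L h a) (res L h b) := by
  change res (Coh.structureModule X) h (m.app U (tw L a b)) = m.app V (tw L (res L h a) (res L h b))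
  rw [← app_res]
  exact congrArg (m.app V) (SecTwist.map_tmul L L (homOfLE h) a b)

theorem pm_zero_left {U : X.Opens} (b : Γ(L, U)) : pm m 0 b = 0 := by
  have := pm_smul_left m (0 : Γ(X, U)) (0 : Γ(L, U)) b
  rwa [zero_smul, zero_mul] at this

variable (hL : PicF.IsInvertible L)
include hL

theorem modExt {U : X.Opens} {a b : Γ(L, U)}
    (h : ∀ (W : X.Opens) (hW : W ≤ U) (e : Fin 1 → Γ(L, W)), StalkBasis e → res L hW a = res L hW b) :
    a = b := by
  choose W e hy he using fun y : U => exists_frame hL y.1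
  exact section_ext' L (fun y : U => U ⊓ W y) (fun _ => inf_le_left)
    (fun y hyU => Opens.mem_iSup.mpr ⟨⟨y, hyU⟩, hyU, hy ⟨y, hyU⟩⟩) a b
    fun y => h _ inf_le_left _ ((he y).restrict inf_le_right)

theorem fnExt {U : X.Opens} {a b : Γ(X, U)}
    (h : ∀ (W : X.Opens) (hW : W ≤ U) (e : Fin 1 → Γ(L, W)), StalkBasis e → resO X hW a = resO X hW b) :
    a = b :=
  ext_loc fun y hy => by
    obtain ⟨W, e, hy', he⟩ := exists_frame hL y
    exact ⟨U ⊓ W, inf_le_left, ⟨hy, hy'⟩, h _ inf_le_left _ (he.restrict inf_le_right)⟩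

omit hL in
theorem exists_coef {W : X.Opens} {e : Fin 1 → Γ(L, W)} (he : StalkBasis e) (a : Γ(L, W)) :
    ∃ c : Γ(X, W), c • e 0 = a := by
  obtain ⟨c, hc⟩ := he.exists_comb le_rfl a
  rw [Fin.sum_univ_one, res_self] at hc
  exact ⟨c 0, hc⟩

theorem pm_comm {U : X.Opens} (a b : Γ(L, U)) : pm m a b = pm m b a :=
  fnExt hL fun W hW e he => by
    obtain ⟨x, hx⟩ := exists_coef he (res L hW a)
    obtain ⟨y, hy⟩ := exists_coef he (res L hW b)
    rw [pm_res, pm_res, ← hx, ← hy]
    simp only [pm_smul_left, pm_smul_right]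
    ring

theorem pm_assoc {U : X.Opens} (a b c : Γ(L, U)) : pm m a b • c = pm m b c • a :=
  modExt hL fun W hW e he => by
    obtain ⟨x, hx⟩ := exists_coef he (res L hW a)
    obtain ⟨y, hy⟩ := exists_coef he (res L hW b)
    obtain ⟨z, hz⟩ := exists_coef he (res L hW c)
    rw [res_smul, res_smul, pm_res, pm_res, ← hx, ← hy, ← hz]
    simp only [pm_smul_left, pm_smul_right, smul_smul]
    congr 1
    ring

/-- Sections of the algebra. -/
@[nolint unusedArguments]
def DS (_m : CohB1.tensorMod L L ⟶ Coh.structureModule X) (_hL : PicF.IsInvertible L) (U : X.Opens) :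
    Type u := Γ(X, U) × Γ(L, U)

instance (U : X.Opens) : AddCommGroup (DS m hL U) := inferInstanceAs (AddCommGroup (Γ(X, U) × Γ(L, U)))

/-- A pair as a section of the algebra. -/
def mkDS {U : X.Opens} (r : Γ(X, U)) (l : Γ(L, U)) : DS m hL U := (r, l)

instance (U : X.Opens) : CommRing (DS m hL U) :=
  { (inferInstance : AddCommGroup (DS m hL U)) with
    one := (1, 0)
    mul := fun p q => (p.1 * q.1 + pm m p.2 q.2, p.1 • q.2 + q.1 • p.2)
    left_distrib := fun p q r => by
      refine Prod.ext ?_ ?_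
      · change p.1 * (q.1 + r.1) + pm m p.2 (q.2 + r.2) = (p.1 * q.1 + pm m p.2 q.2) + (p.1 * r.1 + pm m p.2 r.2)
        rw [pm_add_right]; ring
      · change p.1 • (q.2 + r.2) + (q.1 + r.1) • p.2 = (p.1 • q.2 + q.1 • p.2) + (p.1 • r.2 + r.1 • p.2)
        rw [smul_add, add_smul]; abel
    right_distrib := fun p q r => by
      refine Prod.ext ?_ ?_
      · change (p.1 + q.1) * r.1 + pm m (p.2 + q.2) r.2 = (p.1 * r.1 + pm m p.2 r.2) + (q.1 * r.1 + pm m q.2 r.2)
        rw [pm_add_left]; ring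
      · change (p.1 + q.1) • r.2 + r.1 • (p.2 + q.2) = (p.1 • r.2 + r.1 • p.2) + (q.1 • r.2 + r.1 • q.2)
        rw [smul_add, add_smul]; abel
    zero_mul := fun p => by
      refine Prod.ext ?_ ?_
      · change 0 * p.1 + pm m 0 p.2 = 0
        rw [pm_zero_left, zero_mul, add_zero]
      · change (0 : Γ(X, U)) • p.2 + p.1 • (0 : Γ(L, U)) = 0
        rw [zero_smul, smul_zero, add_zero]
    mul_zero := fun p => by
      refine Prod.ext ?_ ?_
      · change p.1 * 0 + pm m p.2 0 = 0
        rw [pm_comm m hL, pm_zero_left, mul_zero, add_zero]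
      · change p.1 • (0 : Γ(L, U)) + (0 : Γ(X, U)) • p.2 = 0
        rw [zero_smul, smul_zero, add_zero]
    one_mul := fun p => by
      refine Prod.ext ?_ ?_
      · change 1 * p.1 + pm m 0 p.2 = p.1
        rw [pm_zero_left, one_mul, add_zero]
      · change (1 : Γ(X, U)) • p.2 + p.1 • (0 : Γ(L, U)) = p.2
        rw [one_smul, smul_zero, add_zero]
    mul_one := fun p => by
      refine Prod.ext ?_ ?_
      · change p.1 * 1 + pm m p.2 0 = p.1
        rw [pm_comm m hL, pm_zero_left, mul_one, add_zero]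
      · change p.1 • (0 : Γ(L, U)) + (1 : Γ(X, U)) • p.2 = p.2
        rw [one_smul, smul_zero, zero_add]
    mul_assoc := fun p q r => by
      refine Prod.ext ?_ ?_
      · change (p.1 * q.1 + pm m p.2 q.2) * r.1 + pm m (p.1 • q.2 + q.1 • p.2) r.2 =
          p.1 * (q.1 * r.1 + pm m q.2 r.2) + pm m p.2 (q.1 • r.2 + r.1 • q.2)
        simp only [pm_add_left, pm_add_right, pm_smul_left, pm_smul_right]; ring
      · change (p.1 * q.1 + pm m p.2 q.2) • r.2 + r.1 • (p.1 • q.2 + q.1 • p.2) =
          p.1 • (q.1 • r.2 + r.1 • q.2) + (q.1 * r.1 + pm m q.2 r.2) • p.2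
        simp only [smul_add, add_smul, smul_smul, pm_assoc m hL p.2 q.2 r.2, mul_comm r.1]
        abel
    mul_comm := fun p q => by
      refine Prod.ext ?_ ?_
      · change p.1 * q.1 + pm m p.2 q.2 = q.1 * p.1 + pm m q.2 p.2
        rw [pm_comm m hL, mul_comm]
      · change p.1 • q.2 + q.1 • p.2 = q.1 • p.2 + p.1 • q.2
        rw [add_comm] }

/-- Restriction of sections of the algebra. -/
def dsRes {U V : X.Opens} (h : V ≤ U) : DS m hL U →+* DS m hL V where
  toFun p := (resO X h p.1, res L h p.2)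
  map_one' := Prod.ext (map_one (X.presheaf.map (homOfLE h).op).hom) (res_zero (M := L) h)
  map_zero' := Prod.ext (map_zero (X.presheaf.map (homOfLE h).op).hom) (res_zero (M := L) h)
  map_add' p q := Prod.ext (map_add (X.presheaf.map (homOfLE h).op).hom _ _) (res_add h _ _)
  map_mul' p q := by
    refine Prod.ext ?_ ?_
    · change resO X h (p.1 * q.1 + pm m p.2 q.2) = resO X h p.1 * resO X h q.1 + pm m (res L h p.2) (res L h q.2)
      rw [← pm_res]
      simp only [resO, map_add, map_mul]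
    · change res L h (p.1 • q.2 + q.1 • p.2) = resO X h p.1 • res L h q.2 + resO X h q.1 • res L h p.2
      rw [res_add, res_smul, res_smul]

/-- The structure map on sections. -/
def dsStr (U : X.Opens) : Γ(X, U) →+* DS m hL U where
  toFun r := (r, 0)
  map_one' := rfl
  map_zero' := rfl
  map_add' a b := Prod.ext rfl (add_zero (0 : Γ(L, U))).symm
  map_mul' a b := by
    refine Prod.ext ?_ ?_
    · change a * b = a * b + pm m 0 0
      rw [pm_zero_left, add_zero]
    · change (0 : Γ(L, U)) = a • (0 : Γ(L, U)) + b • (0 : Γ(L, U))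
      rw [smul_zero, smul_zero, add_zero]

theorem dsRes_self {U : X.Opens} (p : DS m hL U) : dsRes m hL le_rfl p = p :=
  Prod.ext (resO_self p.1) (res_self p.2)

theorem dsRes_dsRes {U V W : X.Opens} (h : V ≤ U) (h' : W ≤ V) (p : DS m hL U) :
    dsRes m hL h' (dsRes m hL h p) = dsRes m hL (h'.trans h) p :=
  Prod.ext (resO_resO h h' p.1) (res_res h h' p.2)

theorem dsRes_fst {U V : X.Opens} (h : V ≤ U) (p : DS m hL U) : (dsRes m hL h p).1 = resO X h p.1 := rfl

theorem dsRes_snd {U V : X.Opens} (h : V ≤ U) (p : DS m hL U) : (dsRes m hL h p).2 = res L h p.2 := rfl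

/-- The presheaf of rings. -/
def dsPre : TopCat.Presheaf CommRingCat.{u} X.carrier where
  obj U := CommRingCat.of (DS m hL U.unop)
  map i := CommRingCat.ofHom (dsRes m hL (leOfHom i.unop))
  map_id U := by
    ext p
    exact dsRes_self m hL p
  map_comp i j := by
    ext p
    exact (dsRes_dsRes m hL (leOfHom i.unop) (leOfHom j.unop) p).symm

/-- The structure map. -/
def dsStrHom : X.presheaf ⟶ dsPre m hL where
  app U := CommRingCat.ofHom (dsStr m hL U.unop)
  naturality U V i := by
    ext r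
    exact Prod.ext rfl (res_zero (M := L) (leOfHom i.unop)).symm

theorem isSheaf_dsPre : (dsPre m hL).IsSheaf := by
  rw [TopCat.Presheaf.isSheaf_iff_isSheafUniqueGluing]
  intro ι U sf hsf
  let sf1 : ∀ i, Γ(X, U i) := fun i => (sf i : DS m hL (U i)).1
  let sf2 : ∀ i, Γ(L, U i) := fun i => (sf i : DS m hL (U i)).2
  have hc : ∀ i j, dsRes m hL (inf_le_left : U i ⊓ U j ≤ U i) (sf i) =
      dsRes m hL (inf_le_right : U i ⊓ U j ≤ U j) (sf j) := fun i j => hsf i j
  have hc1 : TopCat.Presheaf.IsCompatible X.sheaf.obj U sf1 := fun i j =>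
    (dsRes_fst m hL _ _).symm.trans ((congrArg Prod.fst (hc i j)).trans (dsRes_fst m hL _ _))
  have hc2 : ∀ i j, res L (inf_le_left : U i ⊓ U j ≤ U i) (sf2 i) =
      res L (inf_le_right : U i ⊓ U j ≤ U j) (sf2 j) := fun i j =>
    (dsRes_snd m hL _ _).symm.trans ((congrArg Prod.snd (hc i j)).trans (dsRes_snd m hL _ _))
  obtain ⟨s, hs, hs'⟩ := X.sheaf.existsUnique_gluing U sf1 hc1
  obtain ⟨l, hl⟩ := exists_glue L U (fun i => le_iSup U i) le_rfl sf2 hc2
  refine ⟨mkDS m hL s l, fun i => ?_, ?_⟩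
  · change dsRes m hL (le_iSup U i) (mkDS m hL s l) = sf i
    exact Prod.ext ((dsRes_fst m hL _ _).trans (hs i)) ((dsRes_snd m hL _ _).trans (hl i))
  intro p h'
  have h'' : ∀ i, dsRes m hL (le_iSup U i) p = (sf i : DS m hL (U i)) := h'
  refine Prod.ext (hs' (p : DS m hL (iSup U)).1 fun i => ?_) ?_
  · exact (dsRes_fst m hL (le_iSup U i) p).symm.trans (congrArg Prod.fst (h'' i))
  · exact section_ext' L U (fun i => le_iSup U i) le_rfl _ _ fun i =>
      ((dsRes_snd m hL (le_iSup U i) p).symm.trans (congrArg Prod.snd (h'' i))).trans (hl i).symm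

theorem isQC_dsPre : RelSpec.IsQC (dsPre m hL) (dsStrHom m hL) := by
  intro U hU f
  have hq : L.IsQuasicoherent := isQuasicoherent_of_isFinLocFree (fun x => by
    obtain ⟨W, e, hx, he⟩ := exists_frame hL x
    exact ⟨W, 1, hx, nonempty_iso_of_stalkBasis he⟩)
  have hlocL : IsLocAt L U := isLocAt_of_isQuasicoherent L hU
  have hlocO : IsLocAt (Coh.structureModule X) U := isLocAt_unit hU
  let h := X.basicOpen_le f
  letI : Algebra (DS m hL U) (DS m hL (X.basicOpen f)) := (dsRes m hL h).toAlgebra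
  change IsLocalization (Submonoid.powers (dsStr m hL U f)) (DS m hL (X.basicOpen f))
  have hstr : ∀ n : ℕ, algebraMap (DS m hL U) (DS m hL (X.basicOpen f)) (dsStr m hL U f ^ n) =
      dsStr m hL (X.basicOpen f) (resO X h f ^ n) := fun n => by
    rw [← map_pow]
    refine Prod.ext ?_ (res_zero (M := L) h)
    exact map_pow (X.presheaf.map (homOfLE h).op).hom f n
  have hmul : ∀ {V : X.Opens} (r : Γ(X, V)) (p : DS m hL V),
      dsStr m hL V r * p = mkDS m hL (r * p.1) (r • p.2) := fun {V} r p => by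
    refine Prod.ext ?_ ?_
    · change r * p.1 + pm m 0 p.2 = r * p.1
      rw [pm_zero_left, add_zero]
    · change r • p.2 + p.1 • (0 : Γ(L, V)) = r • p.2
      rw [smul_zero, add_zero]
  refine ⟨?_, ?_, ?_⟩
  · rintro ⟨_, n, rfl⟩
    change IsUnit (algebraMap (DS m hL U) (DS m hL (X.basicOpen f)) (dsStr m hL U f ^ n))
    rw [hstr]
    exact ((RingedSpace.isUnit_res_basicOpen _ f).pow n).map (dsStr m hL (X.basicOpen f))
  · intro p
    obtain ⟨n₁, a, ha⟩ : ∃ (n : ℕ) (a : Γ(X, U)), resO X h a = resO X h f ^ n * p.1 :=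
      hlocO.exists_of f p.1
    obtain ⟨n₂, b, hb⟩ := hlocL.exists_of f p.2
    refine ⟨(mkDS m hL (f ^ n₂ * a) (f ^ n₁ • b), ⟨_, n₁ + n₂, rfl⟩), ?_⟩
    change p * algebraMap (DS m hL U) (DS m hL (X.basicOpen f)) (dsStr m hL U f ^ (n₁ + n₂)) = _
    rw [hstr, mul_comm, hmul]
    refine Prod.ext ?_ ?_
    · change _ = resO X h (f ^ n₂ * a)
      simp only [resO, map_mul, map_pow] at ha ⊢
      rw [ha]
      change (_ : Γ(X, X.basicOpen f)) * p.1 = _
      ring
    · change _ = res L h (f ^ n₁ • b)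
      rw [res_smul, hb, smul_smul]
      change (_ : Γ(X, X.basicOpen f)) • p.2 = _
      simp only [resO, map_pow]
      rw [pow_add]
  · intro p q hpq
    obtain ⟨n₁, e₁⟩ := hlocO.eq_zero_of f (show Γ(X, U) from p.1 - q.1) (by
      have := congrArg Prod.fst hpq
      change resO X h p.1 = resO X h q.1 at this
      change resO X h (p.1 - q.1) = 0
      simp only [resO, map_sub] at this ⊢
      rw [this, sub_self])
    obtain ⟨n₂, e₂⟩ := hlocL.eq_zero_of f (p.2 - q.2) (by
      have := congrArg Prod.snd hpq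
      change res L h p.2 = res L h q.2 at this
      rw [res, map_sub]
      exact sub_eq_zero.mpr this)
    refine ⟨⟨_, n₁ + n₂, rfl⟩, ?_⟩
    change dsStr m hL U f ^ (n₁ + n₂) * p = dsStr m hL U f ^ (n₁ + n₂) * q
    rw [← map_pow, hmul, hmul]
    refine Prod.ext ?_ ?_
    · change f ^ (n₁ + n₂) * p.1 = f ^ (n₁ + n₂) * q.1
      have e₁' : f ^ n₁ * (p.1 - q.1) = 0 := e₁
      linear_combination f ^ n₂ * e₁'
    · change f ^ (n₁ + n₂) • p.2 = f ^ (n₁ + n₂) • q.2
      rw [← sub_eq_zero, ← smul_sub, pow_add, mul_smul, e₂, smul_zero]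

/-- The algebra `O ⊕ L`. -/
def dblAlg : RelSpec.QCAlg X where
  presheaf := dsPre m hL
  isSheaf := isSheaf_dsPre m hL
  str := dsStrHom m hL
  isQC := isQC_dsPre m hL

/-- The inclusion of `L` on sections. -/
def dblInclFun (U : X.Opens) : Γ(L, U) →+ DS m hL U :=
  AddMonoidHom.mk' (fun l => mkDS m hL 0 l) fun a b => Prod.ext (add_zero (0 : Γ(X, U))).symm rfl

theorem dblInclFun_res {U V : X.Opens} (h : V ≤ U) (l : Γ(L, U)) :
    dblInclFun m hL V (res L h l) = dsRes m hL h (dblInclFun m hL U l) :=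
  Prod.ext (map_zero (X.presheaf.map (homOfLE h).op).hom).symm rfl

theorem dblInclFun_smul {U : X.Opens} (r : Γ(X, U)) (l : Γ(L, U)) :
    dblInclFun m hL U (r • l) = dsStr m hL U r * dblInclFun m hL U l := by
  refine Prod.ext ?_ ?_
  · change (0 : Γ(X, U)) = r * 0 + pm m 0 l
    rw [pm_zero_left, mul_zero, add_zero]
  · change r • l = r • l + (0 : Γ(X, U)) • (0 : Γ(L, U))
    rw [smul_zero, add_zero]

/-- The inclusion of `L`. -/
def dblIncl : L ⟶ (dblAlg m hL).toModule :=
  ⟨letI := (dblAlg m hL).moduleSect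
   PresheafOfModules.homMk
    { app := fun U => AddCommGrpCat.ofHom (dblInclFun m hL U.unop)
      naturality := fun U V i => by
        ext l
        exact dblInclFun_res m hL (leOfHom i.unop) l }
    (fun U r l => dblInclFun_smul m hL (U := U.unop) r l)⟩

theorem isDblAlg_dblAlg : FinCov.IsDblAlg L m (dblAlg m hL) (dblIncl m hL) := by
  refine ⟨fun U => ?_, fun U l l' => ?_⟩
  · have : ∀ (r : Γ(X, U)) (l : Γ(L, U)), dsStr m hL U r + dblInclFun m hL U l = mkDS m hL r l :=
      fun r l => Prod.ext (add_zero r) (zero_add l)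
    constructor
    · rintro ⟨a, l⟩ ⟨b, l'⟩ hab
      have h' : mkDS m hL a l = mkDS m hL b l' := (this a l).symm.trans (hab.trans (this b l'))
      exact Prod.ext (congrArg Prod.fst h') (congrArg Prod.snd h')
    · rintro ⟨r, l⟩
      exact ⟨(r, l), this r l⟩
  · refine Prod.ext ?_ ?_
    · change 0 * 0 + pm m l l' = pm m l l'
      rw [zero_mul, zero_add]
    · change (0 : Γ(X, U)) • l' + (0 : Γ(X, U)) • l = (0 : Γ(L, U))
      rw [zero_smul, zero_smul, add_zero]
      rfl

end Groth.Agent.FinCov99
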