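import Groth.Agent.FinCov99.Dbl

/-!
The splitting of a finite locally free algebra by its trace.
-/

set_option autoImplicit false
set_option backward.isDefEq.respectTransparency.types false
set_option linter.style.haveILetI false

noncomputable section

universe u

open CategoryTheory Limits AlgebraicGeometry TopologicalSpace Opposite
open Groth.Agent.QC70 Groth.Agent.AlgSub72 Groth.Agent.Props58.LocFree

namespace Groth.Agent.FinCov99

variable {X : Scheme.{u}}

theorem isFinLocFree_of_rank {M : X.Modules} {d : ℕ} (hM : FlatMod.IsFinLocFreeOfRank d M) :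
    FlatMod.IsFinLocFree M := fun x => (hM x).imp fun _ hU => ⟨d, hU⟩

theorem exists_stalkBasis_rank {M : X.Modules} {d : ℕ} (hM : FlatMod.IsFinLocFreeOfRank d M) (x : X) :
    ∃ (U : X.Opens) (s : Fin d → Γ(M, U)), x ∈ U ∧ StalkBasis s := by
  obtain ⟨U, hx, ⟨e⟩⟩ := hM x
  obtain ⟨s, hs⟩ := exists_stalkBasis_of_iso e
  exact ⟨U, s, hx, hs⟩

variable {A : RelSpec.QCAlg X} {d : ℕ} {τ : A.toModule ⟶ Coh.structureModule X}

theorem tval_smul (τ : A.toModule ⟶ Coh.structureModule X) {U : X.Opens} (r : Γ(X, U)) (a : bSec A U) :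
    tval τ U (bStr A U r * a) = r * tval τ U a :=
  Scheme.Modules.Hom.app_smul τ r (ofB A a)

theorem tval_add (τ : A.toModule ⟶ Coh.structureModule X) {U : X.Opens} (a b : bSec A U) :
    tval τ U (a + b) = tval τ U a + tval τ U b :=
  map_add (τ.val.app (op U)).hom a b

theorem tval_sub (τ : A.toModule ⟶ Coh.structureModule X) {U : X.Opens} (a b : bSec A U) :
    tval τ U (a - b) = tval τ U a - tval τ U b :=
  map_sub (τ.val.app (op U)).hom a b

theorem tval_str (hA : FlatMod.IsFinLocFreeOfRank d A.toModule) (hτ : FinCov.IsTrace A τ) (U : X.Opens)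
    (c : Γ(X, U)) : tval τ U (bStr A U c) = d • c := by
  refine ext_loc fun y hy => ?_
  obtain ⟨W, s, hyW, hs⟩ := exists_stalkBasis_rank hA y
  refine ⟨U ⊓ W, inf_le_left, ⟨hy, hyW⟩, ?_⟩
  rw [tval_spec hτ U (bStr A U c) (U ⊓ W) inf_le_left d _ (hs.restrict (inf_le_right : U ⊓ W ≤ W)),
    bRes_str]
  letI := algS A (U ⊓ W)
  refine (Algebra.trace_algebraMap_of_basis (secBasis A hs (inf_le_right : U ⊓ W ≤ W)) _).trans ?_
  rw [Fintype.card_fin]
  exact (map_nsmul (X.presheaf.map (homOfLE inf_le_left).op).hom d c).symm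

theorem strMod_comp (hA : FlatMod.IsFinLocFreeOfRank d A.toModule) (hτ : FinCov.IsTrace A τ) :
    FinCov.strMod A ≫ τ = d • 𝟙 (Coh.structureModule X) :=
  Scheme.Modules.hom_ext _ _ fun U => by
    ext c
    refine (tval_str hA hτ U c).trans ?_
    clear hA
    induction d with
    | zero => rw [zero_smul, zero_smul]; rfl
    | succ n ih => rw [succ_nsmul, succ_nsmul]; exact congrArg (· + (c : Γ(X, U))) ih

theorem isUnit_cast_res (hd : IsUnit ((d : Γ(X, ⊤)))) (U : X.Opens) : IsUnit ((d : Γ(X, U))) := by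
  have := hd.map (X.presheaf.map (homOfLE (le_top : U ≤ ⊤)).op).hom
  rwa [map_natCast] at this

/-- The section of the trace on sections. -/
def trFun (A : RelSpec.QCAlg X) (hd : IsUnit ((d : Γ(X, ⊤)))) (U : X.Opens) : Γ(X, U) →+ bSec A U :=
  AddMonoidHom.mk' (fun c => bStr A U (((isUnit_cast_res hd U).unit⁻¹ : Γ(X, U)ˣ) * c))
    (fun a b => by rw [mul_add, map_add])

theorem trFun_res (hd : IsUnit ((d : Γ(X, ⊤)))) {U V : X.Opens} (h : V ≤ U) (c : Γ(X, U)) :
    trFun A hd V (resO X h c) = bRes A h (trFun A hd U c) := by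
  refine Eq.trans ?_ (bRes_str A h _).symm
  refine congrArg (bStr A V) ?_
  have e : (((isUnit_cast_res hd V).unit⁻¹ : Γ(X, V)ˣ) : Γ(X, V)) =
      resO X h (((isUnit_cast_res hd U).unit⁻¹ : Γ(X, U)ˣ) : Γ(X, U)) := by
    refine (Units.inv_eq_of_mul_eq_one_right ?_)
    rw [IsUnit.unit_spec]
    simp only [resO]
    rw [← map_natCast (X.presheaf.map (homOfLE h).op).hom d, ← map_mul, IsUnit.mul_val_inv, map_one]
  rw [e]
  simp only [resO]
  exact (map_mul (X.presheaf.map (homOfLE h).op).hom _ c).symm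

theorem trFun_mul (hd : IsUnit ((d : Γ(X, ⊤)))) {U : X.Opens} (r c : Γ(X, U)) :
    trFun A hd U (r * c) = bStr A U r * trFun A hd U c := by
  change bStr A U (_ * (r * c)) = bStr A U r * bStr A U (_ * c)
  rw [← map_mul]; congr 1; ring

/-- The section of the trace. -/
def trSection (hd : IsUnit ((d : Γ(X, ⊤)))) : Coh.structureModule X ⟶ A.toModule :=
  ⟨letI := A.moduleSect
   PresheafOfModules.homMk
    { app := fun U => AddCommGrpCat.ofHom (trFun A hd U.unop)
      naturality := fun U V i => by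
        ext c
        exact trFun_res hd (leOfHom i.unop) c }
    (fun U r c => trFun_mul hd (U := U.unop) r c)⟩

theorem isSplitEpi_trace (hA : FlatMod.IsFinLocFreeOfRank d A.toModule) (hτ : FinCov.IsTrace A τ)
    (hd : IsUnit ((d : Γ(X, ⊤)))) : IsSplitEpi τ :=
  ⟨⟨{ section_ := trSection hd
      id := Scheme.Modules.hom_ext _ _ fun U => by
        ext c
        change tval τ U (bStr A U _) = c
        rw [tval_str hA hτ, nsmul_eq_mul, ← mul_assoc, IsUnit.mul_val_inv, one_mul] }⟩⟩

/-- A kernel section as a section of the algebra. -/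
abbrev kv (τ : A.toModule ⟶ Coh.structureModule X) (U : X.Opens) (l : Γ(kernel τ, U)) : bSec A U :=
  jv A (kernel.ι τ) U l

theorem tval_kv (U : X.Opens) (l : Γ(kernel τ, U)) : tval τ U (kv τ U l) = 0 :=
  congr((Scheme.Modules.Hom.app $(kernel.condition τ) U) l)

theorem exists_kv_eq (U : X.Opens) (a : bSec A U) (ha : tval τ U a = 0) :
    ∃ l, kv τ U l = a :=
  exists_kernel_app_eq τ U (ofB A a) ha

theorem kv_injective (U : X.Opens) : Function.Injective (kv τ U) :=
  app_injective_of_mono (kernel.ι τ) U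

theorem bij_str_kv (hA : FlatMod.IsFinLocFreeOfRank d A.toModule) (hτ : FinCov.IsTrace A τ)
    (hd : IsUnit ((d : Γ(X, ⊤)))) (U : X.Opens) :
    Function.Bijective fun p : Γ(X, U) × Γ(kernel τ, U) => bStr A U p.1 + kv τ U p.2 := by
  have hu := isUnit_cast_res hd U
  constructor
  · rintro ⟨a, l⟩ ⟨b, l'⟩ hab
    have ht := congrArg (tval τ U) hab
    simp only [tval_add, tval_str hA hτ, tval_kv, add_zero, nsmul_eq_mul] at ht
    obtain rfl := hu.mul_left_cancel ht
    exact Prod.ext rfl (kv_injective U (add_left_cancel hab))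
  · intro a
    let c : Γ(X, U) := (hu.unit⁻¹ : Γ(X, U)ˣ) * tval τ U a
    obtain ⟨l, hl⟩ := exists_kv_eq (τ := τ) U (a - bStr A U c) (by
      rw [tval_sub, tval_str hA hτ, nsmul_eq_mul, ← mul_assoc, IsUnit.mul_val_inv, one_mul, sub_self])
    exact ⟨(c, l), (congrArg (bStr A U c + ·) hl).trans (add_sub_cancel _ _)⟩

theorem kernel_rank (hA : FlatMod.IsFinLocFreeOfRank d A.toModule) (hτ : FinCov.IsTrace A τ)
    (hd : IsUnit ((d : Γ(X, ⊤)))) : FlatMod.IsFinLocFreeOfRank (d - 1) (kernel τ) := by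
  haveI : (Coh.structureModule X).IsQuasicoherent := QC70.isQuasicoherent_unit
  haveI := isQuasicoherent_kernel τ
  have hfree : FlatMod.IsFinLocFree (kernel τ) := by
    refine FlatMor68.LocFree.isFinLocFree_of_projective_sections _ fun x => ?_
    obtain ⟨U, s, hx, hs⟩ := exists_stalkBasis_rank hA x
    obtain ⟨V, hV, hxV, hle⟩ := exists_isAffineOpen_mem_and_subset hx
    have hVU : V ≤ U := hle
    letI := algS A V
    obtain ⟨hf, hg⟩ := free_of_stalkBasis A hs hVU
    haveI := hf; haveI := hg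
    let incl : Γ(kernel τ, V) →ₗ[Γ(X, V)] bSec A V :=
      { toFun := kv τ V
        map_add' := fun a b => map_add ((kernel.ι τ).app V).hom a b
        map_smul' := fun r l => (jv_smul A (kernel.ι τ) r l).trans (Algebra.smul_def r _).symm }
    let T : bSec A V →ₗ[Γ(X, V)] Γ(X, V) :=
      { toFun := tval τ V
        map_add' := tval_add τ
        map_smul' := fun r a => by rw [Algebra.smul_def]; exact tval_smul τ r a }
    let u : Γ(X, V) := ((isUnit_cast_res hd V).unit⁻¹ : Γ(X, V)ˣ)
    let pr : bSec A V →ₗ[Γ(X, V)] bSec A V := LinearMap.id - (Algebra.linearMap Γ(X, V) (bSec A V)).comp (u • T)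
    have hpr : ∀ a, tval τ V (pr a) = 0 := fun a => by
      change tval τ V (a - bStr A V (u * tval τ V a)) = 0
      rw [tval_sub, tval_str hA hτ, nsmul_eq_mul, ← mul_assoc, IsUnit.mul_val_inv, one_mul, sub_self]
    choose q hq using fun a => exists_kv_eq (τ := τ) V (pr a) (hpr a)
    let proj : bSec A V →ₗ[Γ(X, V)] Γ(kernel τ, V) :=
      { toFun := q
        map_add' := fun a b => kv_injective V (by
          change incl _ = incl _
          rw [map_add]
          exact (hq _).trans ((map_add pr a b).trans (congrArg₂ (· + ·) (hq a).symm (hq b).symm)))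
        map_smul' := fun r a => kv_injective V (by
          change incl _ = incl _
          rw [RingHom.id_apply, map_smul]
          exact (hq _).trans ((map_smul pr r a).trans (congrArg (r • ·) (hq a).symm))) }
    have hsec : proj.comp incl = LinearMap.id := LinearMap.ext fun l => kv_injective V (by
      refine (hq _).trans ?_
      change kv τ V l - bStr A V (u * tval τ V (kv τ V l)) = _
      rw [tval_kv, mul_zero, map_zero, sub_zero]
      rfl)
    haveI : Module.Projective Γ(X, V) Γ(kernel τ, V) := Module.Projective.of_split incl proj hsec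
    exact ⟨V, hV, hxV, inferInstance,
      Module.Finite.of_surjective proj fun l => ⟨incl l, LinearMap.congr_fun hsec l⟩⟩
  intro x
  obtain ⟨U, n, s, hx, hs⟩ := isFinLocFree_iff.1 hfree x
  obtain ⟨U', t, hx', ht⟩ := exists_stalkBasis_rank hA x
  let t1 : Fin (n + 1) → Γ(A.toModule, U) := Fin.cons (ofB A 1) (fun i => ofB A (kv τ U (s i)))
  have ht1 : StalkBasis t1 := by
    refine stalkBasis_of_bijective fun W hW => ?_
    have key : ∀ a : Fin (n + 1) → Γ(X, W), (∑ i, a i • res A.toModule hW (t1 i)) =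
        ofB A (bStr A W (a 0) + kv τ W (∑ i, a i.succ • res (kernel τ) hW (s i))) := by
      intro a
      rw [Fin.sum_univ_succ]
      refine congrArg₂ (· + ·) ?_ ?_
      · change toB A (a 0 • res A.toModule hW (t1 0)) = _
        rw [toB_smul, toB_res]
        simp [t1]
      · rw [kv, jv, map_sum]
        refine Finset.sum_congr rfl fun i _ => ?_
        rw [Scheme.Modules.Hom.app_smul, app_res]
        simp only [t1, Fin.cons_succ]
    constructor
    · intro a b hab
      simp only [key] at hab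
      obtain ⟨e0, e1⟩ := Prod.ext_iff.1 ((bij_str_kv hA hτ hd W).1 (a₁ := (a 0, _)) (a₂ := (b 0, _)) hab)
      have e1' := (hs.bijective hW).1 e1
      funext i
      induction i using Fin.cases with
      | zero => exact e0
      | succ i => exact congrFun e1' i
    · intro z
      obtain ⟨⟨c, l⟩, hcl⟩ := (bij_str_kv hA hτ hd W).2 (toB A z)
      obtain ⟨b, hb⟩ := (hs.bijective hW).2 l
      refine ⟨Fin.cons c b, ?_⟩
      simp only [key, Fin.cons_zero, Fin.cons_succ]
      rw [show (∑ i, b i • res (kernel τ) hW (s i)) = l from hb]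
      exact hcl
  have hn : n + 1 = d := (ht1.fiberRank_eq x hx).symm.trans (ht.fiberRank_eq x hx')
  exact ⟨U, hx, by rw [← hn, Nat.add_sub_cancel]; exact nonempty_iso_of_stalkBasis hs⟩

/-- In a rank two algebra the square of a traceless element is a scalar. -/
theorem exists_sq_eq_str {U V : X.Opens} {s : Fin 2 → Γ(A.toModule, U)} (hs : StalkBasis s) (hV : V ≤ U)
    (z : bSec A V) (hz : trS A V z = 0) : ∃ c, z * z = bStr A V c := by
  classical
  letI := algS A V
  let b := secBasis A hs hV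
  refine ⟨-(Algebra.leftMulMatrix b z).det, ?_⟩
  have h := Matrix.aeval_self_charpoly (Algebra.leftMulMatrix b z)
  rcases subsingleton_or_nontrivial Γ(X, V) with hS | hS
  · haveI := Module.subsingleton Γ(X, V) (bSec A V)
    exact Subsingleton.elim _ _
  rw [Matrix.charpoly_fin_two, Polynomial.aeval_algHom_apply] at h
  have h' := Algebra.leftMulMatrix_injective b (h.trans (map_zero _).symm)
  have ht : (Algebra.leftMulMatrix b z).trace = 0 := (Algebra.trace_eq_matrix_trace b z).symm.trans hz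
  simp only [map_add, map_sub, map_mul, map_pow, Polynomial.aeval_X, Polynomial.aeval_C, ht,
    map_zero, zero_mul, sub_zero] at h'
  rw [map_neg, eq_neg_iff_add_eq_zero, ← pow_two]
  exact h'

theorem bSec_ext_loc {U : X.Opens} {a b : bSec A U}
    (h : ∀ y ∈ U, ∃ (W : X.Opens) (hW : W ≤ U), y ∈ W ∧ bRes A hW a = bRes A hW b) : a = b := by
  choose W hW hyW e using fun y : U => h y.1 y.2
  exact section_ext' A.toModule W hW (fun y hy => Opens.mem_iSup.mpr ⟨⟨y, hy⟩, hyW ⟨y, hy⟩⟩)
    (ofB A a) (ofB A b) e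

theorem kv_mul_eq (hA : FlatMod.IsFinLocFreeOfRank 2 A.toModule) (hτ : FinCov.IsTrace A τ)
    (h2 : IsUnit (2 : Γ(X, ⊤))) (U : X.Opens) (l l' : Γ(kernel τ, U)) :
    ∃! c : Γ(X, U), kv τ U l * kv τ U l' = bStr A U c := by
  have h2' : IsUnit ((2 : ℕ) : Γ(X, ⊤)) := by rwa [Nat.cast_two]
  have inj : ∀ {V : X.Opens} {c c' : Γ(X, V)}, bStr A V c = bStr A V c' → c = c' := fun {V c c'} e => by
    have := congrArg (tval τ V) e
    rw [tval_str hA hτ, tval_str hA hτ, nsmul_eq_mul, nsmul_eq_mul] at this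
    exact (isUnit_cast_res h2' V).mul_left_cancel this
  let u : Γ(X, U) := ((isUnit_cast_res h2' U).unit⁻¹ : Γ(X, U)ˣ)
  let c := u * tval τ U (kv τ U l * kv τ U l')
  refine ⟨c, ?_, fun c' hc' => ?_⟩
  · refine bSec_ext_loc fun y hy => ?_
    obtain ⟨W, s, hyW, hs⟩ := exists_stalkBasis_rank hA y
    refine ⟨U ⊓ W, inf_le_left, ⟨hy, hyW⟩, ?_⟩
    have hs' := hs.restrict (inf_le_right : U ⊓ W ≤ W)
    have key : ∀ z : bSec A U, tval τ U z = 0 →
        ∃ c, bRes A (inf_le_left : U ⊓ W ≤ U) z * bRes A inf_le_left z = bStr A (U ⊓ W) c := fun z hz => by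
      refine exists_sq_eq_str hs' le_rfl _ ?_
      rw [← tval_spec hτ U z (U ⊓ W) inf_le_left 2 _ hs', hz]
      exact map_zero (X.presheaf.map _).hom
    obtain ⟨c1, h1⟩ := key _ (tval_kv (τ := τ) U l)
    obtain ⟨c2, h2s⟩ := key _ (tval_kv (τ := τ) U l')
    obtain ⟨c3, h3⟩ := key (kv τ U l + kv τ U l') (by rw [tval_add, tval_kv, tval_kv, add_zero])
    have hu := isUnit_cast_res h2' (U ⊓ W)
    let w : Γ(X, U ⊓ W) := (hu.unit⁻¹ : Γ(X, U ⊓ W)ˣ)
    have e : bRes A (inf_le_left : U ⊓ W ≤ U) (kv τ U l) * bRes A inf_le_left (kv τ U l') =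
        bStr A (U ⊓ W) (w * (c3 - c1 - c2)) := by
      rw [map_mul, map_sub, map_sub, ← h1, ← h2s, ← h3, map_add]
      have : bStr A (U ⊓ W) w * 2 = 1 := by
        rw [← map_ofNat (bStr A (U ⊓ W)) 2, ← map_mul, ← Nat.cast_two, IsUnit.val_inv_mul, map_one]
      calc _ = (bStr A (U ⊓ W) w * 2) * (bRes A (inf_le_left : U ⊓ W ≤ U) (kv τ U l) *
            bRes A inf_le_left (kv τ U l')) := by rw [this, one_mul]
        _ = _ := by ring
    rw [map_mul, e, bRes_str]
    congr 1
    have hcast : resO X (inf_le_left : U ⊓ W ≤ U) u = w := by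
      refine (Units.inv_eq_of_mul_eq_one_right ?_).symm
      rw [IsUnit.unit_spec]
      simp only [resO]
      rw [← map_natCast (X.presheaf.map (homOfLE (inf_le_left : U ⊓ W ≤ U)).op).hom 2, ← map_mul,
        IsUnit.mul_val_inv, map_one]
    have hres : resO X (inf_le_left : U ⊓ W ≤ U) c =
        w * resO X inf_le_left (tval τ U (kv τ U l * kv τ U l')) := by
      rw [← hcast]
      simp only [c, resO]
      exact map_mul (X.presheaf.map _).hom _ _
    rw [hres, ← tval_res, map_mul, e, tval_str hA hτ, nsmul_eq_mul, ← mul_assoc w ((2 : ℕ) : Γ(X, U ⊓ W)),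
      IsUnit.val_inv_mul, one_mul]
  · have := congrArg (tval τ U) hc'
    rw [tval_str hA hτ, nsmul_eq_mul] at this
    simp only [c, u]
    rw [this, ← mul_assoc, IsUnit.val_inv_mul, one_mul]

/-- The product of traceless sections. -/
def kvPairing (hA : FlatMod.IsFinLocFreeOfRank 2 A.toModule) (hτ : FinCov.IsTrace A τ)
    (h2 : IsUnit (2 : Γ(X, ⊤))) : Mero90.Pairing (kernel τ) (kernel τ) (Coh.structureModule X) where
  b U l l' := ((kv_mul_eq hA hτ h2 U l l').choose : Γ(X, U))
  add_left U l l' n := by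
    refine ((kv_mul_eq hA hτ h2 U (l + l') n).choose_spec.2 _ ?_).symm
    change toB A ((kernel.ι τ).app U (l + l')) * _ = bStr A U ((_ : Γ(X, U)) + (_ : Γ(X, U)))
    rw [map_add, map_add, ← (kv_mul_eq hA hτ h2 U l n).choose_spec.1, ← (kv_mul_eq hA hτ h2 U l' n).choose_spec.1]
    exact add_mul (kv τ U l) (kv τ U l') (kv τ U n)
  add_right U l n n' := by
    refine ((kv_mul_eq hA hτ h2 U l (n + n')).choose_spec.2 _ ?_).symm
    change _ * toB A ((kernel.ι τ).app U (n + n')) = bStr A U ((_ : Γ(X, U)) + (_ : Γ(X, U)))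
    rw [map_add, map_add, ← (kv_mul_eq hA hτ h2 U l n).choose_spec.1, ← (kv_mul_eq hA hτ h2 U l n').choose_spec.1]
    exact mul_add (kv τ U l) (kv τ U n) (kv τ U n')
  smul_left U r l n := by
    refine ((kv_mul_eq hA hτ h2 U (r • l) n).choose_spec.2 _ ?_).symm
    change kv τ U (r • l) * kv τ U n = bStr A U (r * _)
    rw [kv, jv_smul, map_mul, mul_assoc, ← (kv_mul_eq hA hτ h2 U l n).choose_spec.1]
  smul_right U r l n := by
    refine ((kv_mul_eq hA hτ h2 U l (r • n)).choose_spec.2 _ ?_).symm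
    change kv τ U l * kv τ U (r • n) = bStr A U (r * _)
    rw [show kv τ U (r • n) = _ from jv_smul A (kernel.ι τ) r n, map_mul, ← (kv_mul_eq hA hτ h2 U l n).choose_spec.1]
    ring
  nat U V h l n := by
    refine ((kv_mul_eq hA hτ h2 V _ _).choose_spec.2 _ ?_).symm
    change _ = bStr A V (resO X h _)
    rw [← bRes_str, ← (kv_mul_eq hA hτ h2 U l n).choose_spec.1, map_mul, bRes_jv, bRes_jv]

theorem exists_isDblAlg (hA : FlatMod.IsFinLocFreeOfRank 2 A.toModule) (hτ : FinCov.IsTrace A τ)
    (h2 : IsUnit (2 : Γ(X, ⊤))) :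
    ∃ m : CohB1.tensorMod (kernel τ) (kernel τ) ⟶ Coh.structureModule X,
      FinCov.IsDblAlg (kernel τ) m A (kernel.ι τ) := by
  refine ⟨(kvPairing hA hτ h2).lift, fun U => bij_str_kv hA hτ (by rwa [Nat.cast_two]) U, fun U l l' => ?_⟩
  refine (kv_mul_eq hA hτ h2 U l l').choose_spec.1.trans ?_
  refine congrArg (bStr A U) ?_
  exact ((kvPairing hA hτ h2).lift_tmul U l l').symm

end Groth.Agent.FinCov99
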